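import Mathlib

/-! Bases of modules near a prime, given by elements. -/

set_option linter.unusedSectionVars false
set_option autoImplicit false

noncomputable section

namespace Groth.Agent.PPH.LB

universe u v

variable {R : Type u} [CommRing R] {M : Type u} [AddCommGroup M] [Module R M]

/-- `w` spans up to powers of `g` and its relations are killed by powers of `g`. -/
def WGB (g : R) {κ : Type v} [Fintype κ] (w : κ → M) : Prop :=
  (∀ x : M, ∃ N : ℕ, g ^ N • x ∈ Submodule.span R (Set.range w)) ∧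
    ∀ c : κ → R, ∑ i, c i • w i = 0 → ∀ i, ∃ N : ℕ, g ^ N * c i = 0

theorem eventually_pow_smul {g : R} {ι : Type*} [Fintype ι] {P : ι → M} {S : Submodule R M}
    (h : ∀ i, ∃ N : ℕ, g ^ N • P i ∈ S) : ∃ N : ℕ, ∀ i, g ^ N • P i ∈ S := by
  choose N hN using h
  refine ⟨∑ i, N i, fun i => ?_⟩
  rw [show ∑ j, N j = (∑ j, N j - N i) + N i from
    (Nat.sub_add_cancel (Finset.single_le_sum (fun j _ => Nat.zero_le (N j)) (Finset.mem_univ i))).symm,
    pow_add, mul_smul]
  exact Submodule.smul_mem _ _ (hN i)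

section Local

variable {ι : Type} [Fintype ι] [DecidableEq ι] (f : (ι → R) →ₗ[R] M) (hf : Function.Surjective f)
include hf

/-- Local data at `g`: relations generating the kernel up to powers of `g` and a local splitting. -/
theorem exists_local_data {g : R} {κ : Type v} [Fintype κ] {w : κ → M} (hw : WGB g w) :
    (∃ K0 : Submodule R (ι → R), K0.FG ∧ K0 ≤ LinearMap.ker f ∧
      ∀ k ∈ LinearMap.ker f, ∃ N : ℕ, g ^ N • k ∈ K0) ∧
    ((LinearMap.ker f).FG → ∃ (L : ℕ) (s : M →ₗ[R] (ι → R)), f ∘ₗ s = g ^ L • LinearMap.id) := by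
  classical
  obtain ⟨N, hN⟩ := eventually_pow_smul (fun j : ι => hw.1 (f (Pi.single j 1)))
  choose a ha using fun j => (Submodule.mem_span_range_iff_exists_fun R).mp (hN j)
  choose u hu using fun i => hf (w i)
  let ρ : ι → (ι → R) := fun j => g ^ N • Pi.single j 1 - ∑ i, a j i • u i
  have hρ : ∀ j, ρ j ∈ LinearMap.ker f := fun j => by
    simp [ρ, LinearMap.mem_ker, map_sum, hu, ha]
  have hk : ∀ k : ι → R, g ^ N • k = ∑ j, k j • ρ j + ∑ i, (∑ j, k j * a j i) • u i := by
    intro k
    simp only [ρ, smul_sub, Finset.sum_sub_distrib, Finset.smul_sum, Finset.sum_smul, smul_smul]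
    rw [Finset.sum_comm (f := fun j i => (k j * a j i) • u i), sub_add_cancel]
    ext l
    simp [Pi.single_apply, mul_comm]
  have hc : ∀ k ∈ LinearMap.ker f, ∀ i, ∃ L : ℕ, g ^ L * ∑ j, k j * a j i = 0 := by
    intro k hk' i
    refine hw.2 (fun i => ∑ j, k j * a j i) ?_ i
    have := congrArg f (hk k)
    simp only [map_add, map_sum, map_smul, LinearMap.mem_ker.mp hk', LinearMap.mem_ker.mp (hρ _),
      hu, smul_zero, Finset.sum_const_zero, zero_add] at this
    exact this.symm
  refine ⟨⟨Submodule.span R (Set.range ρ), Submodule.fg_span (Set.finite_range ρ),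
    Submodule.span_le.mpr (Set.range_subset_iff.mpr hρ), fun k hk' => ?_⟩, fun hfg => ?_⟩
  · obtain ⟨L, hL⟩ := eventually_pow_smul (M := R) (S := ⊥) (P := fun i => ∑ j, k j * a j i)
      (g := g) (fun i => by simpa [Submodule.mem_bot] using hc k hk' i)
    refine ⟨L + N, ?_⟩
    rw [pow_add, mul_smul, hk k, smul_add, Finset.smul_sum, Finset.smul_sum]
    refine add_mem (Submodule.sum_mem _ fun j _ =>
      Submodule.smul_mem _ _ (Submodule.smul_mem _ _ (Submodule.subset_span ⟨j, rfl⟩)))
      (Submodule.sum_mem _ fun i _ => ?_)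
    rw [smul_smul, show g ^ L * ∑ j, k j * a j i = 0 by simpa using hL i, zero_smul]
    exact zero_mem _
  · obtain ⟨S, hS⟩ := hfg
    have : ∀ q : S × κ, ∃ L : ℕ, g ^ L • (∑ j, (q.1 : ι → R) j * a j q.2) ∈ (⊥ : Submodule R R) :=
      fun q => by simpa using hc q.1.1 (hS ▸ Submodule.subset_span q.1.2) q.2
    obtain ⟨L, hL⟩ := eventually_pow_smul (M := R) this
    let φ : (ι → R) →ₗ[R] (ι → R) :=
      g ^ L • Fintype.linearCombination R (fun j => ∑ i, a j i • u i)
    have hφ : LinearMap.ker f ≤ LinearMap.ker φ := by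
      rw [← hS, Submodule.span_le]
      intro k hk'
      simp only [SetLike.mem_coe, LinearMap.mem_ker, φ, LinearMap.smul_apply,
        Fintype.linearCombination_apply, Finset.smul_sum, smul_smul]
      rw [Finset.sum_comm]
      refine Finset.sum_eq_zero fun i _ => ?_
      rw [← Finset.sum_smul]
      have := hL (⟨k, hk'⟩, i)
      simp only [Submodule.mem_bot, smul_eq_mul, Finset.mul_sum] at this
      rw [this, zero_smul]
    refine ⟨L + N, (LinearMap.ker f).liftQ φ hφ ∘ₗ (f.quotKerEquivOfSurjective hf).symm.toLinearMap, ?_⟩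
    refine LinearMap.ext fun x => ?_
    obtain ⟨k, rfl⟩ := hf x
    have e : (f.quotKerEquivOfSurjective hf).symm (f k) = Submodule.Quotient.mk k :=
      (LinearEquiv.symm_apply_eq _).mpr rfl
    simp only [LinearMap.comp_apply, LinearEquiv.coe_coe, e, Submodule.liftQ_apply, φ,
      LinearMap.smul_apply, map_smul, LinearMap.id_apply, pow_add, mul_smul]
    congr 1
    rw [← map_smul f (g ^ N) k, hk k]
    simp only [map_add, map_sum, map_smul, LinearMap.mem_ker.mp (hρ _), smul_zero,
      Finset.sum_const_zero, zero_add, Fintype.linearCombination_apply, Finset.sum_smul, mul_smul,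
      Finset.smul_sum]
    exact Finset.sum_comm

theorem fg_ker_of_wgb
    (h : ∀ p : Ideal R, p.IsPrime → ∃ g : R, g ∉ p ∧ ∃ (r : ℕ) (w : Fin r → M), WGB g w) :
    (LinearMap.ker f).FG := by
  classical
  set G : Set R := {g | ∃ (r : ℕ) (w : Fin r → M), WGB g w}
  have hG : Ideal.span G = ⊤ := by
    by_contra hne
    obtain ⟨m, hm, hle⟩ := Ideal.exists_le_maximal _ hne
    obtain ⟨g, hg, hw⟩ := h m hm.isPrime
    exact hg (hle (Ideal.subset_span hw))
  obtain ⟨T, hT, hTtop⟩ := (Ideal.span_eq_top_iff_finite G).mp hG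
  have hd : ∀ g : T, ∃ K0 : Submodule R (ι → R), K0.FG ∧ K0 ≤ LinearMap.ker f ∧
      ∀ k ∈ LinearMap.ker f, ∃ N : ℕ, (g : R) ^ N • k ∈ K0 := fun g => by
    obtain ⟨r, w, hw⟩ := hT g.2
    exact (exists_local_data f hf hw).1
  choose K0 hfg hle hK using hd
  have e : LinearMap.ker f = ⨆ g, K0 g := by
    refine le_antisymm (fun k hk => ?_) (iSup_le hle)
    refine Submodule.mem_of_span_eq_top_of_smul_pow_mem _ (T : Set R) hTtop k fun g => ?_
    obtain ⟨N, hN⟩ := hK g k hk
    exact ⟨N, Submodule.mem_iSup_of_mem g hN⟩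
  rw [e]
  exact Submodule.fg_iSup _ hfg

end Local

theorem projective_of_wgb [Module.Finite R M]
    (h : ∀ p : Ideal R, p.IsPrime → ∃ g : R, g ∉ p ∧ ∃ (r : ℕ) (w : Fin r → M), WGB g w) :
    Module.Projective R M := by
  obtain ⟨m, f, hf⟩ := Module.Finite.exists_fin' R M
  have hfg := fg_ker_of_wgb f hf h
  let T : Ideal R :=
    { carrier := {t | ∃ s : M →ₗ[R] (Fin m → R), f ∘ₗ s = t • LinearMap.id}
      add_mem' := by
        rintro a b ⟨s, hs⟩ ⟨t, ht⟩
        exact ⟨s + t, by rw [LinearMap.comp_add, hs, ht, add_smul]⟩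
      zero_mem' := ⟨0, by simp⟩
      smul_mem' := by
        rintro c a ⟨s, hs⟩
        exact ⟨c • s, by rw [LinearMap.comp_smul, hs, smul_smul, smul_eq_mul]⟩ }
  have hT : T = ⊤ := by
    by_contra hne
    obtain ⟨p, hp, hle⟩ := Ideal.exists_le_maximal _ hne
    obtain ⟨g, hg, r, w, hw⟩ := h p hp.isPrime
    obtain ⟨L, s, hs⟩ := (exists_local_data f hf hw).2 hfg
    exact hg (hp.isPrime.mem_of_pow_mem L (hle ⟨s, hs⟩))
  obtain ⟨s, hs⟩ : (1 : R) ∈ T := hT ▸ Submodule.mem_top
  exact Module.Projective.of_split s f (by simpa using hs)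

/-- A finite projective module: near a prime, some of given generators form a basis. -/
theorem exists_gb [Module.Finite R M] [Module.Projective R M] {ι : Type u} [Fintype ι] (v : ι → M)
    (hv : Submodule.span R (Set.range v) = ⊤) (p : Ideal R) [p.IsPrime] :
    ∃ g : R, g ∉ p ∧ ∃ (r : ℕ) (a : Fin r → ι) (φ : M →ₗ[R] (Fin r → R)),
      (∀ x, ∑ i, φ x i • v (a i) = g • x) ∧ ∀ j, φ (v (a j)) = g • Pi.single j 1 := by
  classical
  have : Module.FinitePresentation R M := Module.finitePresentation_of_projective R M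
  let Rp := Localization.AtPrime p
  let F := LocalizedModule.mkLinearMap p.primeCompl M
  have hsp : Submodule.span Rp (Set.range (F ∘ v)) = ⊤ := by
    rw [Set.range_comp]
    exact span_eq_top_of_isLocalizedModule Rp p.primeCompl F hv
  obtain ⟨κ, a', b, hb⟩ := Module.exists_basis_of_span_of_flat (F ∘ v) hsp
  have hinj : Function.Injective a' := fun x y hxy => b.injective (by rw [hb, hb, hxy])
  have : Finite κ := Finite.of_injective a' hinj
  obtain ⟨r, ⟨e⟩⟩ := Finite.exists_equiv_fin κ
  let b' := b.reindex e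
  let a : Fin r → ι := fun i => a' (e.symm i)
  have hb' : ∀ i, b' i = F (v (a i)) := fun i => by simp [b', a, hb]
  -- spanning
  have hspan : ∀ j, ∃ t : p.primeCompl, ∃ c : Fin r → R, (t : R) • v j = ∑ i, c i • v (a i) := by
    intro j
    have hmem : F (v j) ∈ Submodule.span Rp (F '' Set.range (v ∘ a)) := by
      rw [← Set.range_comp, show F ∘ (v ∘ a) = b' from funext fun i => (hb' i).symm, b'.span_eq]
      trivial
    rw [← Submodule.localized'_span Rp p.primeCompl F] at hmem
    obtain ⟨y, hy, s, hys⟩ := hmem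
    obtain ⟨c, hc⟩ := (Submodule.mem_span_range_iff_exists_fun R).mp hy
    rw [IsLocalizedModule.mk'_eq_iff] at hys
    rw [Submonoid.smul_def, ← map_smul, IsLocalizedModule.eq_iff_exists p.primeCompl] at hys
    obtain ⟨q, hq⟩ := hys
    refine ⟨q * s, fun i => (q : R) * c i, ?_⟩
    simp only [mul_smul, ← Finset.smul_sum]
    simp only [Function.comp_apply] at hc
    rw [hc, Submonoid.coe_mul, mul_smul]
    exact hq.symm
  choose t c hc using hspan
  let T : R := ∏ j, (t j : R)
  let fv := Fintype.linearCombination R v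
  have hfv : Function.Surjective fv := LinearMap.range_eq_top.mp
    ((Fintype.range_linearCombination R v).trans hv)
  obtain ⟨σ, hσ⟩ := Module.projective_lifting_property fv LinearMap.id hfv
  let θ : M →ₗ[R] (Fin r → R) :=
    Fintype.linearCombination R (fun j => (∏ k ∈ Finset.univ.erase j, (t k : R)) • c j) ∘ₗ σ
  let W := Fintype.linearCombination R (fun i => v (a i))
  have hWθ : ∀ x, W (θ x) = T • x := by
    intro x
    conv_rhs => rw [show x = fv (σ x) from (LinearMap.congr_fun hσ x).symm]
    simp only [θ, LinearMap.comp_apply, Fintype.linearCombination_apply (R := R) (v := fun j => _),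
      map_sum, map_smul, fv, Finset.smul_sum]
    refine Finset.sum_congr rfl fun j _ => ?_
    rw [smul_comm T, show W (c j) = (t j : R) • v j by
      simp only [W, Fintype.linearCombination_apply]; exact (hc j).symm]
    rw [smul_smul (∏ k ∈ _, _), Finset.prod_erase_mul _ _ (Finset.mem_univ j)]
  -- independence
  have hind : ∀ d, W d = 0 → ∀ i, ∃ s : p.primeCompl, (s : R) * d i = 0 := by
    intro d hd i
    have h0 : ∑ l, algebraMap R Rp (d l) • b' l = 0 := by
      simp only [hb', algebraMap_smul, ← map_smul, ← map_sum]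
      rw [show ∑ l, d l • v (a l) = 0 from hd, map_zero]
    have := Fintype.linearIndependent_iff.mp b'.linearIndependent _ h0 i
    exact (IsLocalization.map_eq_zero_iff p.primeCompl Rp _).mp this
  have hk : ∀ i l, ∃ s : p.primeCompl, (s : R) * (θ (v (a i)) l - T * (Pi.single i 1 : Fin r → R) l) = 0 := by
    intro i l
    refine hind (θ (v (a i)) - T • Pi.single i 1) ?_ l
    rw [map_sub, map_smul, hWθ, show W (Pi.single i 1) = v (a i) by simp [W], sub_self]
  choose s hs using hk
  let S : R := ∏ q : Fin r × Fin r, (s q.1 q.2 : R)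
  refine ⟨S * T, ?_, r, a, S • θ, fun x => ?_, fun j => ?_⟩
  · refine p.primeCompl.mul_mem (prod_mem fun q _ => (s q.1 q.2).2) (prod_mem fun j _ => (t j).2)
  · have : W ((S • θ) x) = (S * T) • x := by
      rw [LinearMap.smul_apply, map_smul, hWθ, smul_smul]
    exact this
  · ext l
    have hdvd : (s j l : R) ∣ S := Finset.dvd_prod_of_mem _ (Finset.mem_univ (j, l))
    obtain ⟨q, hq⟩ := hdvd
    have := hs j l
    simp only [LinearMap.smul_apply, Pi.smul_apply, smul_eq_mul]
    linear_combination q * this + (θ (v (a j)) l - T * (Pi.single j 1 : Fin r → R) l) * hq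

end Groth.Agent.PPH.LB
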