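import Groth.Prelude.Def_PP16
import Groth.Prelude.Def_CAlgX
import Groth.Agent.PPH.LocBasis
import Groth.Agent.RR50.Rees

/-! Quasi-regular sequences away from a multiplicative set. -/

set_option linter.unusedSectionVars false
set_option autoImplicit false

noncomputable section

namespace Groth.Agent.PPH.QR

universe u

open MvPolynomial

variable {A : Type u} [CommRing A] {m : ℕ}

/-- Quasi-regularity up to multiplication by elements of `S`. -/
def QRS (S : Submonoid A) (x : Fin m → A) : Prop :=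
  ∀ (n : ℕ) (F : MvPolynomial (Fin m) A), F.IsHomogeneous n →
    eval x F ∈ Ideal.span (Set.range x) ^ (n + 1) →
      ∀ d, ∃ s ∈ S, s * F.coeff d ∈ Ideal.span (Set.range x)

theorem qrs_mono {S T : Submonoid A} (h : S ≤ T) {x : Fin m → A} (hx : QRS S x) : QRS T x :=
  fun n F hF he d => (hx n F hF he d).imp fun _ hs => ⟨h hs.1, hs.2⟩

section Loc

variable (S : Submonoid A) (L : Type u) [CommRing L] [Algebra A L] [IsLocalization S L]

theorem span_map (x : Fin m → A) : Ideal.span (Set.range fun i => algebraMap A L (x i)) =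
    (Ideal.span (Set.range x)).map (algebraMap A L) := by
  rw [Ideal.map_span, ← Set.range_comp]
  rfl

theorem isQuasiRegular_of_qrs {x : Fin m → A} (h : QRS S x) :
    CAlgX.IsQuasiRegular (fun i => algebraMap A L (x i)) := by
  classical
  intro n F hF he d
  rw [span_map L x] at he ⊢
  obtain ⟨b, hb⟩ := IsLocalization.exist_integer_multiples S F.support (fun e => F.coeff e)
  choose a ha using hb
  let F' : MvPolynomial (Fin m) A := ∑ e ∈ F.support.attach, monomial e.1 (a e.1 e.2)
  have hmap : MvPolynomial.map (algebraMap A L) F' = C (algebraMap A L b) * F := by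
    ext e
    simp only [F', map_sum, map_monomial, coeff_sum, coeff_monomial, coeff_C_mul, ha,
      Algebra.smul_def]
    rw [Finset.sum_attach F.support fun x => if x = e then algebraMap A L b * F.coeff x else 0,
      Finset.sum_ite_eq']
    split_ifs with h'
    · rfl
    · rw [notMem_support_iff.mp h', mul_zero]
  have hF' : F'.IsHomogeneous n := IsHomogeneous.sum _ _ _ fun e _ =>
    isHomogeneous_monomial _ (by
      have h := hF (mem_support_iff.mp e.2)
      rwa [Finsupp.degree_eq_weight_one])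
  have he' : algebraMap A L (eval x F') ∈ ((Ideal.span (Set.range x)) ^ (n + 1)).map (algebraMap A L) := by
    rw [Ideal.map_pow, map_eval, Function.comp_def, hmap, map_mul, eval_C]
    exact Ideal.mul_mem_left _ _ he
  obtain ⟨s, hs, hs'⟩ := (IsLocalization.algebraMap_mem_map_algebraMap_iff S L _ _).mp he'
  by_cases hd : d ∈ F.support
  · obtain ⟨t, ht, ht'⟩ := h n (C s * F') (hF'.C_mul s) (by rw [map_mul, eval_C]; exact hs') d
    have hcoef : algebraMap A L (F'.coeff d) = algebraMap A L b * F.coeff d := by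
      rw [← coeff_map, hmap, coeff_C_mul]
    have h2 := Ideal.mem_map_of_mem (algebraMap A L) ht'
    rw [coeff_C_mul, ← mul_assoc, map_mul, hcoef, ← mul_assoc, ← map_mul] at h2
    exact (Ideal.unit_mul_mem_iff_mem _
      (IsLocalization.map_units L (⟨t * s * (b : A), S.mul_mem (S.mul_mem ht hs) b.2⟩ : S))).mp h2
  · rw [notMem_support_iff.mp hd]; exact zero_mem _

include L in
theorem qrs_of_isQuasiRegular {x : Fin m → A}
    (h : CAlgX.IsQuasiRegular (fun i => algebraMap A L (x i))) : QRS S x := by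
  intro n F hF he d
  have h1 := h n (MvPolynomial.map (algebraMap A L) F) (hF.map _) (by
    rw [← Function.comp_def, ← map_eval, Function.comp_def, span_map L x, ← Ideal.map_pow]
    exact Ideal.mem_map_of_mem _ he) d
  rw [span_map L x, coeff_map] at h1
  exact (IsLocalization.algebraMap_mem_map_algebraMap_iff S L _ _).mp h1

end Loc

/-- Numerators of a local quasi-regular sequence. -/
theorem exists_num {J : Ideal A} (h : PP16.IsLocallyQuasiRegular A J) (P : Ideal A) [P.IsPrime]
    (hP : J ≤ P) : ∃ g : A, g ∉ P ∧ ∃ (r : ℕ) (x : Fin r → A), (∀ i, x i ∈ J) ∧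
      (∀ z ∈ J, ∃ N : ℕ, g ^ N * z ∈ Ideal.span (Set.range x)) ∧ QRS (Submonoid.powers g) x := by
  obtain ⟨g, hg, r, f, hf, hspan⟩ := h P hP
  let L := Localization.Away g
  have hnum : ∀ i, ∃ y ∈ J, ∃ e : L, IsUnit e ∧ algebraMap A L y = e * f i := by
    intro i
    have hfi : f i ∈ J.map (algebraMap A L) := hspan ▸ Ideal.subset_span ⟨i, rfl⟩
    obtain ⟨⟨⟨y, hy⟩, s⟩, hs⟩ := (IsLocalization.mem_map_algebraMap_iff (Submonoid.powers g) L).mp hfi
    exact ⟨y, hy, algebraMap A L s, IsLocalization.map_units L s, by rw [mul_comm]; exact hs.symm⟩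
  choose x hx e he hxe using hnum
  have hsp : Ideal.span (Set.range fun i => algebraMap A L (x i)) = Ideal.span (Set.range f) := by
    refine le_antisymm (Ideal.span_le.mpr ?_) (Ideal.span_le.mpr ?_)
    · rintro _ ⟨i, rfl⟩
      simp only [SetLike.mem_coe, hxe]
      exact Ideal.mul_mem_left _ _ (Ideal.subset_span ⟨i, rfl⟩)
    · rintro _ ⟨i, rfl⟩
      refine (Ideal.unit_mul_mem_iff_mem _ (he i)).mp ?_
      rw [← hxe]
      exact Ideal.subset_span ⟨i, rfl⟩
  refine ⟨g, hg, r, x, hx, fun z hz => ?_,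
    qrs_of_isQuasiRegular (Submonoid.powers g) L (RR50.isQuasiRegular_of_span_eq f _ hf hsp.symm)⟩
  have h1 := Ideal.mem_map_of_mem (algebraMap A L) hz
  rw [← hspan, ← hsp, span_map L x] at h1
  obtain ⟨s, ⟨N, rfl⟩, hs⟩ := (IsLocalization.algebraMap_mem_map_algebraMap_iff (Submonoid.powers g) L _ _).mp h1
  exact ⟨N, hs⟩

/-- The classes of local numerators form a basis of the conormal module up to powers. -/
theorem wgb_of_num {R : Type u} [CommRing R] {M : Type u} [AddCommGroup M] [Module R M]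
    {J : Ideal A} (π : A →+* R) (hπ : Function.Surjective π) (hker : ∀ a, π a = 0 ↔ a ∈ J)
    (ψ : J →+ M) (hψ : Function.Surjective ψ) (hsmul : ∀ (c : A) (z : J), ψ (c • z) = π c • ψ z)
    (hzero : ∀ z : J, ψ z = 0 ↔ (z : A) ∈ J ^ 2)
    {g : A} {r : ℕ} {x : Fin r → A} (hx : ∀ i, x i ∈ J)
    (hsp : ∀ z ∈ J, ∃ N : ℕ, g ^ N * z ∈ Ideal.span (Set.range x))
    (hq : QRS (Submonoid.powers g) x) : LB.WGB (π g) fun i => ψ ⟨x i, hx i⟩ := by
  have hlin : ∀ c : Fin r → A, ψ (∑ i, c i • ⟨x i, hx i⟩) = ∑ i, π (c i) • ψ ⟨x i, hx i⟩ :=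
    fun c => by rw [map_sum]; simp only [hsmul]
  refine ⟨fun y => ?_, fun c hc i => ?_⟩
  · obtain ⟨z, rfl⟩ := hψ y
    obtain ⟨N, hN⟩ := hsp z z.2
    obtain ⟨c, hc⟩ := (Submodule.mem_span_range_iff_exists_fun A).mp hN
    refine ⟨N, (Submodule.mem_span_range_iff_exists_fun R).mpr ⟨fun i => π (c i), ?_⟩⟩
    rw [← hlin, ← map_pow, ← hsmul]
    congr 1
    apply Subtype.ext
    simpa using hc
  · choose a ha using fun i => hπ (c i)
    have h0 : ψ (∑ i, a i • (⟨x i, hx i⟩ : J)) = 0 := by rw [hlin]; simpa only [ha] using hc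
    have h2 : ∑ i, a i * x i ∈ J ^ 2 := by simpa using (hzero _).mp h0
    -- up to a power of `g`, `J` is generated by the `x i`
    have hmul : ∀ z ∈ J ^ 2, ∃ N : ℕ, g ^ N * z ∈ Ideal.span (Set.range x) ^ 2 := by
      intro z hz
      rw [pow_two] at hz
      refine Submodule.mul_induction_on hz (fun p hp q hq' => ?_) ?_
      · obtain ⟨M1, h1⟩ := hsp p hp
        obtain ⟨M2, h2⟩ := hsp q hq'
        refine ⟨M1 + M2, ?_⟩
        rw [pow_two, show g ^ (M1 + M2) * (p * q) = (g ^ M1 * p) * (g ^ M2 * q) by ring]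
        exact Ideal.mul_mem_mul h1 h2
      · rintro p q ⟨M1, h1⟩ ⟨M2, h2⟩
        refine ⟨M1 + M2, ?_⟩
        rw [show g ^ (M1 + M2) * (p + q) = g ^ M2 * (g ^ M1 * p) + g ^ M1 * (g ^ M2 * q) by ring]
        exact add_mem (Ideal.mul_mem_left _ _ h1) (Ideal.mul_mem_left _ _ h2)
    obtain ⟨N, hN⟩ := hmul _ h2
    have hP : (∑ j, C (g ^ N * a j) * X j : MvPolynomial (Fin r) A).IsHomogeneous 1 :=
      IsHomogeneous.sum _ _ _ fun j _ => (isHomogeneous_X A j).C_mul _
    have he : eval x (∑ j, C (g ^ N * a j) * X j : MvPolynomial (Fin r) A) ∈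
        Ideal.span (Set.range x) ^ 2 := by
      simpa [map_sum, Finset.mul_sum, mul_assoc] using hN
    obtain ⟨_, ⟨M', rfl⟩, hs⟩ := hq 1 _ hP he (Finsupp.single i 1)
    simp only [coeff_sum, coeff_C_mul, coeff_X, Finsupp.single_left_inj one_ne_zero, mul_ite, mul_one,
      mul_zero, Finset.sum_ite_eq', Finset.mem_univ, if_true] at hs
    refine ⟨M' + N, ?_⟩
    rw [← ha i, ← map_pow, ← map_mul, hker, pow_add, mul_assoc]
    exact Ideal.span_le.mpr (Set.range_subset_iff.mpr hx) hs

section Flat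

variable {B : Type u} [CommRing B] [Algebra A B]

theorem exists_rel [Module.Flat A B] {ι : Type} [Fintype ι] (v : ι → A) (b : ι → B)
    (h : ∑ i, b i * algebraMap A B (v i) = 0) :
    ∃ (k : ℕ) (y : Fin k → ι → A) (c : Fin k → B), (∀ l, ∑ i, v i * y l i = 0) ∧
      ∀ i, b i = ∑ l, c l * algebraMap A B (y l i) := by
  obtain ⟨k, y, c, hb, hy⟩ := Module.Flat.isTrivialRelation_of_sum_smul_eq_zero
    (R := A) (M := B) (f := v) (x := b) (by simpa [Algebra.smul_def, mul_comm] using h)
  exact ⟨k, fun l i => y i l, c, hy, fun i => (hb i).trans (by simp [Algebra.smul_def, mul_comm])⟩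

theorem exists_colon [Module.Flat A B] (Q : Ideal B) [Q.IsPrime] {x : Fin m → A} {a : A} {s : B}
    (hs : s ∉ Q) (h : s * algebraMap A B a ∈ Ideal.span (Set.range fun i => algebraMap A B (x i))) :
    ∃ t : A, t ∉ Q.comap (algebraMap A B) ∧ t * a ∈ Ideal.span (Set.range x) := by
  obtain ⟨c, hc⟩ := Ideal.mem_span_range_iff_exists_fun.mp h
  let v : Option (Fin m) → A := fun o => o.elim a x
  let b : Option (Fin m) → B := fun o => o.elim s fun i => -c i
  obtain ⟨k, y, e, hy, hb⟩ := exists_rel v b (by simp [v, b, Fintype.sum_option, ← hc])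
  obtain ⟨l, hl⟩ : ∃ l, y l none ∉ Q.comap (algebraMap A B) := by
    by_contra! hall
    apply hs
    rw [show s = ∑ l, e l * algebraMap A B (y l none) from hb none]
    exact Q.sum_mem fun l _ => Q.mul_mem_left _ (hall l)
  refine ⟨y l none, hl, Ideal.mem_span_range_iff_exists_fun.mpr ⟨fun i => -y l (some i), ?_⟩⟩
  have := hy l
  simp only [v, Fintype.sum_option, Option.elim] at this
  simp only [neg_mul, Finset.sum_neg_distrib]
  simp only [mul_comm (y l (some _))]
  linear_combination -this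

theorem qrs_descend [Module.Flat A B] (Q : Ideal B) [Q.IsPrime] {x : Fin m → A}
    (h : QRS Q.primeCompl (fun i => algebraMap A B (x i))) :
    QRS (Q.comap (algebraMap A B)).primeCompl x := by
  intro n F hF he d
  have he' : eval (fun i => algebraMap A B (x i)) (MvPolynomial.map (algebraMap A B) F) ∈
      Ideal.span (Set.range fun i => algebraMap A B (x i)) ^ (n + 1) := by
    rw [← Function.comp_def, ← map_eval, Function.comp_def,
      show Ideal.span (Set.range fun i => algebraMap A B (x i)) =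
        (Ideal.span (Set.range x)).map (algebraMap A B) by rw [Ideal.map_span, ← Set.range_comp]; rfl,
      ← Ideal.map_pow]
    exact Ideal.mem_map_of_mem _ he
  obtain ⟨s, hs, hs'⟩ := h n _ (hF.map _) he' d
  rw [coeff_map] at hs'
  exact exists_colon Q hs hs'

end Flat

end Groth.Agent.PPH.QR
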