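import Groth.Agent.PPH.Pushout

/-! Principal parts commute with base change. -/

set_option linter.unusedSectionVars false
set_option autoImplicit false

noncomputable section

namespace Groth.Agent.PPH

open PP16
open scoped TensorProduct

universe u

variable (n : ℕ) {A B A' B' : Type u} [CommRing A] [CommRing B] [Algebra A B]
  [CommRing A'] [CommRing B'] [Algebra A' B'] [Algebra A A'] [Algebra B B'] [Algebra A B']
  [IsScalarTower A A' B'] [IsScalarTower A B B'] [Algebra.IsPushout A B A' B']

variable (A B A' B') in
/-- The functoriality map as a map of `B`-algebras. -/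
def mapB : P n A B →ₐ[B] P n A' B' where
  toRingHom := (PP16.map n A B A' B').toRingHom
  commutes' b := by
    change PP16.map n A B A' B' (algebraMap B _ b) = _
    rw [map_algebraMap, ← IsScalarTower.algebraMap_apply B B']

theorem mapB_apply (x : P n A B) : mapB n A B A' B' x = PP16.map n A B A' B' x := rfl

theorem exists_algEquiv_of_isPushout (T : Type u) [CommRing T] [Algebra A T] [Algebra A' T]
    [Algebra B T] [Algebra B' T] [IsScalarTower A A' T] [IsScalarTower A' B' T]
    [IsScalarTower B B' T] [IsScalarTower A B T] [IsScalarTower A B' T]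
    (ι : P n A B →ₐ[B] T) (fwd : T →ₐ[B'] P n A' B')
    (hfwd : ∀ x, fwd (ι x) = PP16.map n A B A' B' x)
    (hext : ∀ g h : T →ₐ[B'] T, (∀ x, g (ι x) = h (ι x)) → g = h) :
    ∃ e : T ≃ₐ[B'] P n A' B', ∀ x, e (ι x) = PP16.map n A B A' B' x := by
  let φ : B →ₐ[A] T := (ι.restrictScalars A).comp (dn n A B)
  let J : Ideal T := (augIdeal n A B).map ι
  have hJn : J ^ (n + 1) = ⊥ := by
    change (augIdeal n A B).map ι ^ (n + 1) = ⊥
    rw [← Ideal.map_pow, augIdeal_pow, Ideal.map_bot]
  have hφ : ∀ b, φ b - algebraMap B T b ∈ J := fun b => by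
    rw [← ι.commutes b]
    change ι (dn n A B b) - ι (algebraMap B _ b) ∈ J
    rw [← map_sub]
    exact Ideal.mem_map_of_mem _ (delta_mem n A B b)
  obtain ⟨f', hfB, hJ⟩ := exists_extend_pushout (A' := A') (B' := B') φ J hφ
  let inv : P n A' B' →ₐ[B'] T := desc n f' hJ hJn
  refine ⟨AlgEquiv.ofAlgHom fwd inv ?_ ?_, hfwd⟩
  · apply algHom_ext
    intro b'
    change fwd (inv (dn n A' B' b')) = dn n A' B' b'
    rw [desc_dn]
    haveI : Algebra.IsPushout A A' B B' := Algebra.IsPushout.symm inferInstance
    have key : (fwd.restrictScalars A).comp (f'.restrictScalars A) =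
        (dn n A' B').restrictScalars A := by
      refine Algebra.IsPushout.algHom_ext (S := A') (R' := B) B' ?_ ?_
      · ext b
        simp only [AlgHom.comp_apply, IsScalarTower.coe_toAlgHom', AlgHom.coe_restrictScalars', hfB]
        change fwd (ι (dn n A B b)) = _
        rw [hfwd]
        exact map_dn n A B A' B' b
      · ext a
        simp only [AlgHom.comp_apply, IsScalarTower.coe_toAlgHom', AlgHom.coe_restrictScalars',
          AlgHom.commutes]
        rw [IsScalarTower.algebraMap_apply A' B' T, AlgHom.commutes,
          ← IsScalarTower.algebraMap_apply A' B' (P n A' B')]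
    exact AlgHom.congr_fun key b'
  · apply hext
    intro x
    change inv (fwd (ι x)) = ι x
    rw [hfwd]
    have : (inv.restrictScalars B).comp (mapB n A B A' B') = ι := by
      apply algHom_ext
      intro b
      change inv (PP16.map n A B A' B' (dn n A B b)) = _
      rw [map_dn, desc_dn]
      exact hfB b
    exact AlgHom.congr_fun this x

end Groth.Agent.PPH
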