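import Groth.Prelude.Def_PP16
import Mathlib

/-! The universal property of the rings of principal parts. -/

set_option linter.unusedSectionVars false
set_option autoImplicit false

noncomputable section

namespace Groth.Agent.PPH

open PP16
open scoped TensorProduct

universe u w

section

variable (n : ℕ) (A B : Type u) [CommRing A] [CommRing B] [Algebra A B]

theorem algebraMap_mk (b : B) :
    algebraMap B (P n A B) b = Ideal.Quotient.mk _ (b ⊗ₜ[A] (1 : B)) := rfl

theorem dn_mk (b : B) : dn n A B b = Ideal.Quotient.mk _ ((1 : B) ⊗ₜ[A] b) := rfl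

theorem mk_tmul (b c : B) :
    (Ideal.Quotient.mk ((KaehlerDifferential.ideal A B) ^ (n + 1)) (b ⊗ₜ[A] c) : P n A B) =
      b • dn n A B c := by
  rw [Algebra.smul_def, algebraMap_mk, dn_mk, ← map_mul, Algebra.TensorProduct.tmul_mul_tmul,
    mul_one, one_mul]

theorem span_range_dn : Submodule.span B (Set.range (dn n A B)) = ⊤ := by
  rw [eq_top_iff]
  intro x hx
  clear hx
  obtain ⟨y, rfl⟩ := Ideal.Quotient.mk_surjective x
  induction y using TensorProduct.induction_on with
  | zero => rw [map_zero]; exact zero_mem _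
  | tmul b c => rw [mk_tmul]; exact Submodule.smul_mem _ _ (Submodule.subset_span ⟨c, rfl⟩)
  | add a b ha hb => rw [map_add]; exact add_mem ha hb

/-- The difference `d^n b - b` in the ring of principal parts. -/
def delta (b : B) : P n A B := dn n A B b - algebraMap B (P n A B) b

theorem delta_mem (b : B) : delta n A B b ∈ augIdeal n A B := by
  rw [delta, algebraMap_mk, dn_mk, ← map_sub]
  exact Ideal.mem_map_of_mem _ (KaehlerDifferential.one_smul_sub_smul_one_mem_ideal A b)

theorem augIdeal_pow : augIdeal n A B ^ (n + 1) = ⊥ := by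
  rw [augIdeal, ← Ideal.map_pow, Ideal.map_quotient_self]

theorem augIdeal_eq_span : augIdeal n A B = Ideal.span (Set.range (delta n A B)) := by
  refine (congrArg (Ideal.map _) (KaehlerDifferential.span_range_eq_ideal A B).symm).trans ?_
  rw [Ideal.map_span, ← Set.range_comp]
  rfl

theorem isNilpotent_delta (b : B) : IsNilpotent (delta n A B b) := by
  refine ⟨n + 1, ?_⟩
  have := Ideal.pow_mem_pow (delta_mem n A B b) (n + 1)
  rwa [augIdeal_pow, Submodule.mem_bot] at this

theorem isUnit_dn {b : B} (hb : IsUnit b) : IsUnit (dn n A B b) := hb.map _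

theorem isUnit_algebraMap_iff (b : B) :
    IsUnit (algebraMap B (P n A B) b) ↔ IsUnit (dn n A B b) := by
  have h : dn n A B b = algebraMap B (P n A B) b + delta n A B b := by simp [delta]
  rw [h]
  constructor
  · intro hu; exact (isNilpotent_delta n A B b).isUnit_add_left_of_commute hu (Commute.all _ _)
  · intro hu
    have := (isNilpotent_delta n A B b).neg.isUnit_add_left_of_commute hu (Commute.all _ _)
    simpa using this

variable {n A B} {C : Type w} [CommRing C] [Algebra A C] [Algebra B C] [IsScalarTower A B C]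

/-- The map out of `B ⊗ B` given by the structure map and `f`. -/
def tensorDesc (f : B →ₐ[A] C) : B ⊗[A] B →ₐ[B] C :=
  Algebra.TensorProduct.lift (Algebra.ofId B C) f fun _ _ => Commute.all _ _

theorem tensorDesc_tmul (f : B →ₐ[A] C) (b c : B) :
    tensorDesc f (b ⊗ₜ c) = algebraMap B C b * f c := by
  simp [tensorDesc]

theorem ideal_le_comap (f : B →ₐ[A] C) {J : Ideal C} (hJ : ∀ b, f b - algebraMap B C b ∈ J) :
    (KaehlerDifferential.ideal A B) ≤ J.comap (tensorDesc f).toRingHom := by
  rw [← KaehlerDifferential.span_range_eq_ideal, Ideal.span_le]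
  rintro _ ⟨b, rfl⟩
  simpa [tensorDesc_tmul] using hJ b

variable (n) in
/-- The universal property of `P^n`. -/
def desc (f : B →ₐ[A] C) {J : Ideal C} (hJ : ∀ b, f b - algebraMap B C b ∈ J)
    (hn : J ^ (n + 1) = ⊥) : P n A B →ₐ[B] C :=
  Ideal.Quotient.liftₐ _ (tensorDesc f) fun x hx => by
    have h := Ideal.le_comap_pow (tensorDesc f).toRingHom (n + 1)
      (Ideal.pow_right_mono (ideal_le_comap f hJ) (n + 1) hx)
    rw [hn] at h
    exact (Submodule.mem_bot C).mp (Ideal.mem_comap.mp h)

theorem desc_dn (f : B →ₐ[A] C) {J : Ideal C} (hJ : ∀ b, f b - algebraMap B C b ∈ J)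
    (hn : J ^ (n + 1) = ⊥) (b : B) : desc n f hJ hn (dn n A B b) = f b := by
  change tensorDesc f ((1 : B) ⊗ₜ b) = f b
  rw [tensorDesc_tmul, map_one, one_mul]

theorem desc_delta (f : B →ₐ[A] C) {J : Ideal C} (hJ : ∀ b, f b - algebraMap B C b ∈ J)
    (hn : J ^ (n + 1) = ⊥) (b : B) :
    desc n f hJ hn (delta n A B b) = f b - algebraMap B C b := by
  rw [delta, map_sub, desc_dn, AlgHom.commutes]

/-- Ring maps out of `P^n` are determined on the two copies of `B`. -/
theorem ringHom_ext {S : Type w} [Semiring S] {f g : P n A B →+* S}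
    (h1 : ∀ b, f (algebraMap B _ b) = g (algebraMap B _ b))
    (h2 : ∀ b, f (dn n A B b) = g (dn n A B b)) : f = g := by
  refine Ideal.Quotient.ringHom_ext (RingHom.ext fun y => ?_)
  induction y using TensorProduct.induction_on with
  | zero => simp
  | tmul b c =>
    simp only [RingHom.comp_apply, mk_tmul, Algebra.smul_def, map_mul, h1, h2]
  | add a b ha hb => simp only [map_add, ha, hb]

theorem algHom_ext {f g : P n A B →ₐ[B] C} (h : ∀ b, f (dn n A B b) = g (dn n A B b)) : f = g :=
  AlgHom.coe_ringHom_injective (ringHom_ext (fun b => by simp [AlgHom.commutes]) h)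

theorem eq_top_of_dn_mem {S : Subalgebra B (P n A B)} (h : ∀ b, dn n A B b ∈ S) : S = ⊤ := by
  refine eq_top_iff.mpr fun x _ => ?_
  have hx : x ∈ Submodule.span B (Set.range (dn n A B)) := by rw [span_range_dn]; trivial
  have hle : Submodule.span B (Set.range (dn n A B)) ≤ Subalgebra.toSubmodule S :=
    Submodule.span_le.mpr (by rintro y ⟨b, rfl⟩; exact h b)
  exact hle hx

section Two

variable {n : ℕ} {A B : Type u} [CommRing A] [CommRing B] [Algebra A B]

theorem exists_desc {C : Type w} [CommRing C] [Algebra A C] (g f : B →ₐ[A] C) {J : Ideal C}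
    (hJ : ∀ b, f b - g b ∈ J) (hn : J ^ (n + 1) = ⊥) :
    ∃ h : P n A B →ₐ[A] C, (∀ b, h (algebraMap B _ b) = g b) ∧ ∀ b, h (dn n A B b) = f b := by
  let := g.toRingHom.toAlgebra
  have : IsScalarTower A B C := IsScalarTower.of_algebraMap_eq fun a => (g.commutes a).symm
  exact ⟨(desc n f hJ hn).restrictScalars A, fun b => (desc n f hJ hn).commutes b,
    fun b => desc_dn f hJ hn b⟩

theorem algHom_ext' {S : Type w} [CommRing S] [Algebra A S] {f g : P n A B →ₐ[A] S}
    (h1 : ∀ b, f (algebraMap B _ b) = g (algebraMap B _ b))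
    (h2 : ∀ b, f (dn n A B b) = g (dn n A B b)) : f = g :=
  AlgHom.coe_ringHom_injective (ringHom_ext h1 h2)

theorem map_ideal_pow_eq_bot {C : Type w} [CommRing C] (h : P n A B →+* C) :
    ((augIdeal n A B).map h) ^ (n + 1) = ⊥ := by
  rw [← Ideal.map_pow, augIdeal_pow, Ideal.map_bot]

theorem sub_mem_map {C : Type w} [CommRing C] (h : P n A B →+* C) (b : B) :
    h (dn n A B b) - h (algebraMap B _ b) ∈ (augIdeal n A B).map h := by
  rw [← map_sub]
  exact Ideal.mem_map_of_mem _ (delta_mem n A B b)

end Two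

end

end Groth.Agent.PPH
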