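import Groth.Agent.PPH.Graded

/-! Criteria for differential smoothness. -/

set_option linter.unusedSectionVars false
set_option autoImplicit false

noncomputable section

namespace Groth.Agent.PPH

open PP16
open scoped TensorProduct

universe u

variable {A B : Type u} [CommRing A] [CommRing B] [Algebra A B] {ι : Type u} [Fintype ι] {κ : Type u}

local notation "II" => KaehlerDifferential.ideal A B

theorem phi_injective_of (i : KaehlerDifferential A B →ₗ[B] κ →₀ B)
    (r : (κ →₀ B) →ₗ[B] KaehlerDifferential A B) (hr : r ∘ₗ i = LinearMap.id)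
    {N : Type u} [AddCommGroup N] [Module B N]
    (ρ : grI A B (Fintype.card ι) →ₗ[B] N) (F : MvPolynomial κ B →ₗ[B] N)
    (hF : Function.Injective F)
    (hval : ∀ b : ι → B,
      ρ (zetaProd A B b) = F (∏ a, Sym.lin κ (i (KaehlerDifferential.D A B (b a))))) :
    Function.Injective (phi A B ι) := by
  have e : ρ ∘ₗ phi A B ι = F ∘ₗ Sym.toPoly (Sym.lin κ ∘ₗ i) := by
    refine Sym.hom_ext fun w => ?_
    have key : (ρ ∘ₗ phi A B ι).compMultilinearMap (SymmetricPower.tprod B) =
        (F ∘ₗ Sym.toPoly (Sym.lin κ ∘ₗ i)).compMultilinearMap (SymmetricPower.tprod B) := by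
      refine multilinear_ext_span (KaehlerDifferential.span_range_derivation A B) fun v hv => ?_
      choose b hb using hv
      rw [show v = fun a => KaehlerDifferential.D A B (b a) from funext fun a => (hb a).symm]
      simp only [LinearMap.compMultilinearMap_apply, LinearMap.comp_apply, phi_tprod_D, hval,
        Sym.toPoly_tprod]
    exact congrArg (fun f : MultilinearMap B (fun _ : ι => KaehlerDifferential A B) N => f w) key
  have hinj : Function.Injective (ρ ∘ₗ phi A B ι) := by
    rw [e]
    exact hF.comp (Sym.toPoly_comp_injective i r hr)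
  exact Function.Injective.of_comp (f := ρ) hinj

/-- A linear map on the square that kills a power of the diagonal, restricted to the graded piece. -/
theorem exists_grI_map {N : Type u} [AddCommGroup N] [Module B N] (k : ℕ)
    (ρ : B ⊗[A] B →ₗ[B] N) (hρ : ∀ x ∈ II ^ (k + 1), ρ x = 0) :
    ∃ σ : grI A B k →ₗ[B] N,
      ∀ (x : B ⊗[A] B) (hx : x ∈ II ^ k), σ (Submodule.Quotient.mk ⟨x, hx⟩) = ρ x :=
  ⟨Submodule.liftQ _ (ρ ∘ₗ ((II ^ k).restrictScalars B).subtype) fun x hx => hρ x.1 hx,
    fun _ _ => rfl⟩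

theorem phi_injective_of_square (i : KaehlerDifferential A B →ₗ[B] κ →₀ B)
    (r : (κ →₀ B) →ₗ[B] KaehlerDifferential A B) (hr : r ∘ₗ i = LinearMap.id)
    {N : Type u} [AddCommGroup N] [Module B N]
    (ρ : B ⊗[A] B →ₗ[B] N) (hρ : ∀ x ∈ II ^ (Fintype.card ι + 1), ρ x = 0)
    (F : MvPolynomial κ B →ₗ[B] N) (hF : Function.Injective F)
    (hval : ∀ b : ι → B,
      ρ (∏ a, del A B (b a)) = F (∏ a, Sym.lin κ (i (KaehlerDifferential.D A B (b a))))) :
    Function.Injective (phi A B ι) := by
  obtain ⟨σ, hσ⟩ := exists_grI_map (Fintype.card ι) ρ hρ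
  refine phi_injective_of i r hr σ F hF fun b => ?_
  rw [← hval]
  exact hσ _ (prod_mem A B ι fun a => ⟨del A B (b a), del_mem A B (b a)⟩)

variable (A B)

theorem exists_embedding [Module.Projective B (KaehlerDifferential A B)] :
    ∃ (κ : Type u) (i : KaehlerDifferential A B →ₗ[B] κ →₀ B)
      (r : (κ →₀ B) →ₗ[B] KaehlerDifferential A B), r ∘ₗ i = LinearMap.id := by
  obtain ⟨i, hi⟩ := Module.projective_def'.mp
    (inferInstance : Module.Projective B (KaehlerDifferential A B))
  exact ⟨_, i, _, hi⟩

/-- Projectivity of the truncations of the square. -/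
theorem projective_truncation (h : IsDiffSmooth A B) :
    ∀ m : ℕ, Module.Projective B ((B ⊗[A] B) ⧸ (II ^ m).restrictScalars B) ∧
      ∃ ret : (B ⊗[A] B) ⧸ (II ^ (m + 1)).restrictScalars B →ₗ[B] grI A B m,
        ∀ (x : B ⊗[A] B) (hx : x ∈ II ^ m),
          ret (Submodule.Quotient.mk x) = Submodule.Quotient.mk ⟨x, hx⟩ := by
  obtain ⟨hproj, hinj⟩ := (isDiffSmooth_iff A B).mp h
  have step : ∀ m, Module.Projective B ((B ⊗[A] B) ⧸ (II ^ m).restrictScalars B) →
      Module.Projective B ((B ⊗[A] B) ⧸ (II ^ (m + 1)).restrictScalars B) ∧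
      ∃ ret : (B ⊗[A] B) ⧸ (II ^ (m + 1)).restrictScalars B →ₗ[B] grI A B m,
        ∀ (x : B ⊗[A] B) (hx : x ∈ II ^ m),
          ret (Submodule.Quotient.mk x) = Submodule.Quotient.mk ⟨x, hx⟩ := by
    intro m hm
    let Q := (B ⊗[A] B) ⧸ (II ^ (m + 1)).restrictScalars B
    let π : Q →ₗ[B] (B ⊗[A] B) ⧸ (II ^ m).restrictScalars B :=
      Submodule.mapQ _ _ LinearMap.id fun x hx => Ideal.pow_le_pow_right (Nat.le_succ m) hx
    let j : grI A B m →ₗ[B] Q :=
      Submodule.mapQ _ _ ((II ^ m).restrictScalars B).subtype fun x hx => hx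
    have hπ : Function.Surjective π := fun y => by
      obtain ⟨x, rfl⟩ := Submodule.Quotient.mk_surjective _ y
      exact ⟨Submodule.Quotient.mk x, rfl⟩
    have hj : Function.Injective j := by
      refine (injective_iff_map_eq_zero j).mpr fun q hq => ?_
      induction q using Submodule.Quotient.induction_on with | H y =>
      exact (Submodule.Quotient.mk_eq_zero _).mpr ((Submodule.Quotient.mk_eq_zero _).mp hq : _)
    obtain ⟨s, hs⟩ := Module.projective_lifting_property π LinearMap.id hπ
    have hmem : ∀ q, q - s (π q) ∈ LinearMap.range j := by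
      intro q
      obtain ⟨x, hx⟩ := Submodule.Quotient.mk_surjective _ (q - s (π q))
      have h0 : π (q - s (π q)) = 0 := by
        rw [map_sub, show π (s (π q)) = π q from LinearMap.congr_fun hs _, sub_self]
      rw [← hx] at h0
      exact ⟨Submodule.Quotient.mk ⟨x, (Submodule.Quotient.mk_eq_zero _).mp h0⟩, hx⟩
    let ret : Q →ₗ[B] grI A B m := (LinearEquiv.ofInjective j hj).symm.toLinearMap ∘ₗ
      (LinearMap.id - s ∘ₗ π).codRestrict _ hmem
    have hret : ∀ q, j (ret q) = q - s (π q) := fun q =>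
      congrArg Subtype.val ((LinearEquiv.ofInjective j hj).apply_symm_apply _)
    refine ⟨?_, ret, fun x hx => hj ?_⟩
    · haveI : Module.Projective B (grI A B m) := by
        haveI : Module.Projective B
            (SymmetricPower B (ULift.{u} (Fin m)) (KaehlerDifferential A B)) := Sym.projective
        have hc : Fintype.card (ULift.{u} (Fin m)) = m := by simp
        have e := LinearEquiv.ofBijective (phi A B (ULift.{u} (Fin m)))
          ⟨hinj _, phi_surjective A B _⟩
        have hp := Module.Projective.of_equiv e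
        rw [hc] at hp
        exact hp
      refine Module.Projective.of_split (LinearMap.prod ret π) (LinearMap.coprod j s) ?_
      ext q
      simp [hret]
    · rw [hret, show π (Submodule.Quotient.mk x) = 0 from
        (Submodule.Quotient.mk_eq_zero _).mpr hx, map_zero, sub_zero]
      rfl
  have hP : ∀ m, Module.Projective B ((B ⊗[A] B) ⧸ (II ^ m).restrictScalars B) := by
    intro m
    induction m with
    | zero =>
      have : Subsingleton ((B ⊗[A] B) ⧸ (II ^ 0).restrictScalars B) :=
        Submodule.Quotient.subsingleton_iff.mpr (by rw [pow_zero, Ideal.one_eq_top]; rfl)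
      exact Module.Projective.of_split
        (0 : (B ⊗[A] B) ⧸ (II ^ 0).restrictScalars B →ₗ[B] B) 0 (Subsingleton.elim _ _)
    | succ m ih => exact (step m ih).1
  exact fun m => ⟨hP m, (step m (hP m)).2⟩

/-- For a differentially smooth algebra the symmetrised symbol extends to the square. -/
theorem exists_symbol (h : IsDiffSmooth A B) (κ : Type u)
    (i : KaehlerDifferential A B →ₗ[B] κ →₀ B) (ι : Type u) [Fintype ι] :
    ∃ ρ : B ⊗[A] B →ₗ[B] MvPolynomial κ B,
      (∀ x ∈ II ^ (Fintype.card ι + 1), ρ x = 0) ∧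
      ∀ b : ι → B, ρ (∏ a, del A B (b a)) =
        ∏ a, Sym.lin κ (i (KaehlerDifferential.D A B (b a))) := by
  obtain ⟨-, hinj⟩ := (isDiffSmooth_iff A B).mp h
  obtain ⟨-, ret, hret⟩ := projective_truncation A B h (Fintype.card ι)
  let e := LinearEquiv.ofBijective (phi A B ι) ⟨hinj ι, phi_surjective A B ι⟩
  refine ⟨Sym.toPoly (Sym.lin κ ∘ₗ i) ∘ₗ e.symm.toLinearMap ∘ₗ ret ∘ₗ Submodule.mkQ _,
    fun x hx => ?_, fun b => ?_⟩
  · simp only [LinearMap.comp_apply, Submodule.mkQ_apply]
    rw [show ret (Submodule.Quotient.mk x) = 0 from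
      (congrArg ret ((Submodule.Quotient.mk_eq_zero _).mpr hx)).trans (map_zero _), map_zero, map_zero]
  · have hb : ∏ a, del A B (b a) ∈ II ^ Fintype.card ι := by
      simpa using prod_mem A B ι fun a => ⟨del A B (b a), del_mem A B (b a)⟩
    simp only [LinearMap.comp_apply, Submodule.mkQ_apply, hret _ hb, LinearEquiv.coe_coe]
    have he : e.symm (Submodule.Quotient.mk ⟨_, hb⟩) =
        SymmetricPower.tprod B fun a => KaehlerDifferential.D A B (b a) :=
      (LinearEquiv.symm_apply_eq e).mpr (phi_tprod_D A B ι b).symm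
    rw [he, Sym.toPoly_tprod]
    rfl

end Groth.Agent.PPH
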