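import Groth.Agent.PPH.MonomialBasis
import Groth.Agent.PPH.LocBasis
import Groth.Agent.PPH.QRLocal

/-! Differential smoothness and quasi-regularity of the diagonal. -/

set_option linter.unusedSectionVars false
set_option autoImplicit false

noncomputable section

namespace Groth.Agent.PPH

open PP16
open scoped TensorProduct

universe u

theorem sum_eq_of_mem_support {R : Type*} [CommRing R] {r m : ℕ} {F : MvPolynomial (Fin r) R}
    (hF : F.IsHomogeneous m) {e : Fin r →₀ ℕ} (he : e ∈ F.support) : ∑ k, e k = m := by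
  have h := hF (MvPolynomial.mem_support_iff.mp he)
  rw [← Finsupp.degree_eq_sum, Finsupp.degree_eq_weight_one]
  exact h

/-- A determinant trick. -/
theorem exists_mul_mem_of_mul_mem_sup {R : Type*} [CommRing R] (I J : Ideal R) {n : ℕ} (x : Fin n → R)
    (hx : Ideal.span (Set.range x) = I) (G : R) (h : ∀ i, G * x i ∈ J ⊔ I ^ 2) :
    ∃ d : R, d - G ^ n ∈ I ∧ ∀ z ∈ I, d * z ∈ J := by
  classical
  have hsq : ∀ z ∈ I ^ 2, ∃ a : Fin n → R, (∀ k, a k ∈ I) ∧ ∑ k, a k * x k = z := by
    intro z hz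
    rw [pow_two] at hz
    refine Submodule.mul_induction_on hz (fun p hp q hq => ?_) ?_
    · obtain ⟨c, rfl⟩ := Ideal.mem_span_range_iff_exists_fun.mp (hx.ge hq)
      exact ⟨fun k => p * c k, fun k => Ideal.mul_mem_right _ _ hp, by simp [Finset.mul_sum, mul_assoc]⟩
    · rintro p q ⟨a, ha, rfl⟩ ⟨b, hb, rfl⟩
      exact ⟨fun k => a k + b k, fun k => add_mem (ha k) (hb k), by simp [add_mul, Finset.sum_add_distrib]⟩
  choose j hj w hw hjw using fun i => Submodule.mem_sup.mp (h i)
  choose a ha hax using fun i => hsq _ (hw i)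
  let M : Matrix (Fin n) (Fin n) R := G • (1 : Matrix (Fin n) (Fin n) R) - Matrix.of a
  have hM : ∀ i, M.mulVec x i = j i := fun i => by
    simp only [M, Matrix.sub_mulVec, Matrix.smul_mulVec, Matrix.one_mulVec, Pi.sub_apply,
      Pi.smul_apply, smul_eq_mul]
    rw [← hjw i, ← hax i]
    exact add_sub_cancel_right _ _
  refine ⟨M.det, ?_, ?_⟩
  · rw [← Ideal.Quotient.eq_zero_iff_mem, map_sub, RingHom.map_det]
    have : (Ideal.Quotient.mk I).mapMatrix M = Matrix.scalar (Fin n) (Ideal.Quotient.mk I G) := by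
      ext i k
      simp [M, Matrix.one_apply, Matrix.diagonal_apply, Ideal.Quotient.eq_zero_iff_mem.mpr (ha i k),
        apply_ite (Ideal.Quotient.mk I)]
    rw [this]
    simp
  · intro z hz
    obtain ⟨c, rfl⟩ := Ideal.mem_span_range_iff_exists_fun.mp (hx.ge hz)
    rw [Finset.mul_sum]
    refine J.sum_mem fun i _ => ?_
    rw [mul_left_comm]
    refine J.mul_mem_left _ ?_
    have h1 : M.adjugate.mulVec (M.mulVec x) i = M.det * x i := by
      rw [Matrix.mulVec_mulVec, Matrix.adjugate_mul, Matrix.smul_mulVec, Matrix.one_mulVec]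
      rfl
    rw [← h1, Matrix.mulVec, dotProduct]
    exact J.sum_mem fun k _ => J.mul_mem_left _ (by rw [hM]; exact hj k)

variable (A B : Type u) [CommRing A] [CommRing B] [Algebra A B]

local notation "II" => KaehlerDifferential.ideal A B

/-- Multiplication. -/
def mulMap : B ⊗[A] B →+* B := (Algebra.TensorProduct.lmul' A (S := B)).toRingHom

theorem mulMap_eq_zero_iff (x : B ⊗[A] B) : mulMap A B x = 0 ↔ x ∈ II := Iff.rfl

theorem mulMap_algebraMap (b : B) : mulMap A B (algebraMap B (B ⊗[A] B) b) = b := by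
  simp [mulMap, Algebra.TensorProduct.algebraMap_apply]

theorem mulMap_surjective : Function.Surjective (mulMap A B) :=
  fun b => ⟨algebraMap B (B ⊗[A] B) b, mulMap_algebraMap A B b⟩

theorem sub_algebraMap_mulMap_mem (x : B ⊗[A] B) : x - algebraMap B _ (mulMap A B x) ∈ II := by
  rw [← mulMap_eq_zero_iff, map_sub, mulMap_algebraMap, sub_self]

/-- The class map to the differentials. -/
def cls : II →+ KaehlerDifferential A B := (Ideal.toCotangent II).toAddMonoidHom

theorem cls_smul (c : B ⊗[A] B) (z : II) : cls A B (c • z) = mulMap A B c • cls A B z := by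
  have h : algebraMap B (B ⊗[A] B) (mulMap A B c) • Ideal.toCotangent II z =
      mulMap A B c • (cls A B z) := algebraMap_smul (B ⊗[A] B) (mulMap A B c) _
  rw [← h, ← map_smul]
  refine (Ideal.toCotangent_eq (x := c • z) (y := algebraMap B (B ⊗[A] B) (mulMap A B c) • z) II).mpr ?_
  change c * (z : B ⊗[A] B) - algebraMap B (B ⊗[A] B) (mulMap A B c) * z ∈ II ^ 2
  rw [← sub_mul, pow_two]
  exact Ideal.mul_mem_mul (sub_algebraMap_mulMap_mem A B c) z.2

theorem cls_eq_zero_iff (z : II) : cls A B z = 0 ↔ (z : B ⊗[A] B) ∈ II ^ 2 :=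
  Ideal.toCotangent_eq_zero II z

theorem prime_comap {P : Ideal (B ⊗[A] B)} (hP : II ≤ P) (x : B ⊗[A] B) :
    mulMap A B x ∈ P.comap (algebraMap B (B ⊗[A] B)) ↔ x ∈ P := by
  rw [Ideal.mem_comap]
  exact ⟨fun h => by simpa using add_mem (hP (sub_algebraMap_mulMap_mem A B x)) h,
    fun h => by simpa using sub_mem h (hP (sub_algebraMap_mulMap_mem A B x))⟩

theorem isLocallyQuasiRegular_of_isDiffSmooth [Algebra.FiniteType A B] (h : IsDiffSmooth A B) :
    IsLocallyQuasiRegular (B ⊗[A] B) II := by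
  classical
  intro P _ hP
  have : Module.Projective B (KaehlerDifferential A B) := h.1
  obtain ⟨T, hT, hTspan⟩ := (Submodule.fg_span_iff_fg_span_finset_subset
    (Set.range (KaehlerDifferential.D A B))).mp (by
      rw [KaehlerDifferential.span_range_derivation]; exact Module.Finite.fg_top)
  obtain ⟨g, hg, r, a, φ, hφ, hφw⟩ := LB.exists_gb (fun t : T => (t : KaehlerDifferential A B))
    (by
      rw [Subtype.range_coe_subtype, Finset.setOf_mem, ← hTspan,
        KaehlerDifferential.span_range_derivation])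
    (P.comap (algebraMap B (B ⊗[A] B)))
  choose z hz using fun i => hT (a i).2
  let g1 : B ⊗[A] B := algebraMap B (B ⊗[A] B) g
  have hg1 : g1 ∉ P := hg
  let ζ : Fin r → B ⊗[A] B := fun i => del A B (z i)
  have hζ : ∀ i, ζ i ∈ II := fun i => del_mem A B (z i)
  obtain ⟨n, x, hx⟩ := Submodule.fg_iff_exists_fin_generating_family.mp
    (KaehlerDifferential.ideal_fg A B)
  have hxm : ∀ i, x i ∈ II := fun i => hx ▸ Submodule.subset_span ⟨i, rfl⟩
  have hsup : ∀ i, g1 * x i ∈ Ideal.span (Set.range ζ) ⊔ II ^ 2 := by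
    intro i
    let c := φ (cls A B ⟨x i, hxm i⟩)
    have hc : ∑ k, algebraMap B (B ⊗[A] B) (c k) * ζ k ∈ Ideal.span (Set.range ζ) :=
      Submodule.sum_mem _ fun k _ => Ideal.mul_mem_left _ _ (Ideal.subset_span ⟨k, rfl⟩)
    have h0 : cls A B (g1 • (⟨x i, hxm i⟩ : II) -
        ∑ k, algebraMap B (B ⊗[A] B) (c k) • (⟨ζ k, hζ k⟩ : II)) = 0 := by
      rw [map_sub, map_sum, cls_smul, mulMap_algebraMap, ← hφ (cls A B ⟨x i, hxm i⟩), sub_eq_zero]
      refine Finset.sum_congr rfl fun k _ => ?_
      rw [cls_smul, mulMap_algebraMap]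
      congr 1
      exact (hz k).symm.trans (D_eq A B (z k))
    have h2 : g1 * x i - ∑ k, algebraMap B (B ⊗[A] B) (c k) * ζ k ∈ II ^ 2 := by
      simpa using (cls_eq_zero_iff A B _).mp h0
    exact Submodule.mem_sup.mpr ⟨_, hc, _, h2, add_sub_cancel _ _⟩
  obtain ⟨d, hd, hdJ⟩ := exists_mul_mem_of_mul_mem_sup II (Ideal.span (Set.range ζ)) x hx g1 hsup
  have hdP : d ∉ P := fun hc => hg1 ((inferInstance : P.IsPrime).mem_of_pow_mem n
    (by simpa using sub_mem hc (hP hd)))
  have hJI : Ideal.span (Set.range ζ) ≤ II := Ideal.span_le.mpr (Set.range_subset_iff.mpr hζ)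
  -- the monomials are independent up to powers of `g`
  have key : ∀ (m : ℕ) (F : MvPolynomial (Fin r) (B ⊗[A] B)), F.IsHomogeneous m →
      MvPolynomial.eval ζ F ∈ II ^ (m + 1) → ∀ e, g ^ m * mulMap A B (F.coeff e) = 0 := by
    intro m F hF hev
    obtain ⟨κ, i, r', hr'⟩ := exists_embedding A B
    obtain ⟨ρ, hρ0, hρ⟩ := exists_symbol A B h κ i (ULift.{u} (Fin m))
    let L : KaehlerDifferential A B →ₗ[B] MvPolynomial (Fin r) B :=
      Fintype.linearCombination B (fun k => (MvPolynomial.X k : MvPolynomial (Fin r) B)) ∘ₗ φ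
    let ψ : MvPolynomial κ B →ₐ[B] MvPolynomial (Fin r) B :=
      MvPolynomial.aeval fun k => L (r' (Finsupp.single k 1))
    have hψlin : ∀ v, ψ (Sym.lin κ (i v)) = L v := by
      intro v
      have e1 : ψ.toLinearMap ∘ₗ Sym.lin κ = L ∘ₗ r' := Finsupp.lhom_ext' fun k =>
        LinearMap.ext_ring (by simp [ψ, Sym.lin])
      calc ψ (Sym.lin κ (i v)) = L (r' (i v)) := LinearMap.congr_fun e1 (i v)
        _ = L v := congrArg L (LinearMap.congr_fun hr' v)
    have hLw : ∀ k, L (KaehlerDifferential.D A B (z k)) =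
        MvPolynomial.C g * MvPolynomial.X k := by
      intro k
      simp only [L, LinearMap.comp_apply, hz k, hφw, map_smul, Fintype.linearCombination_apply_single,
        MvPolynomial.smul_eq_C_mul, map_one, one_mul]
    have hterm : ∀ e ∈ F.support, ψ (ρ (∏ k, ζ k ^ e k)) = MvPolynomial.monomial e (g ^ m) := by
      intro e he
      have hem : ∑ k, e k = m := sum_eq_of_mem_support hF he
      obtain ⟨q⟩ : Nonempty (ULift.{u} (Fin m) ≃ Σ k, Fin (e k)) :=
        ⟨Fintype.equivOfCardEq (by simp [hem])⟩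
      have h1 := congrArg ψ (hρ fun t => z (q t).1)
      rw [prod_sigma_pow (fun k => e k) (fun k => del A B (z k)) q] at h1
      rw [h1, map_prod]
      simp only [hψlin, hLw]
      rw [prod_sigma_pow (fun k => e k)
        (fun k => (MvPolynomial.C g * MvPolynomial.X k : MvPolynomial (Fin r) B)) q,
        MvPolynomial.monomial_eq, Finsupp.prod_fintype _ _ fun _ => pow_zero _]
      simp only [mul_pow, Finset.prod_mul_distrib, Finset.prod_pow_eq_pow_sum, hem, map_pow]
    have hsum : ∑ e ∈ F.support, mulMap A B (F.coeff e) • (∏ k, ζ k ^ e k) ∈ II ^ (m + 1) := by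
      have h2 : ∑ e ∈ F.support, (F.coeff e * (∏ k, ζ k ^ e k) -
          mulMap A B (F.coeff e) • (∏ k, ζ k ^ e k)) ∈ II ^ (m + 1) := by
        refine Submodule.sum_mem _ fun e he => ?_
        rw [Algebra.smul_def, ← sub_mul, pow_succ']
        refine Ideal.mul_mem_mul (sub_algebraMap_mulMap_mem A B _) ?_
        have hem : ∑ k, e k = m := sum_eq_of_mem_support hF he
        rw [← hem, ← Finset.prod_pow_eq_pow_sum]
        exact Ideal.prod_mem_prod fun k _ => Ideal.pow_mem_pow (hζ k) _
      rw [MvPolynomial.eval_eq'] at hev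
      rw [Finset.sum_sub_distrib] at h2
      simpa using sub_mem hev h2
    have h3 := hρ0 _ (by simpa using hsum)
    rw [map_sum] at h3
    have h4 := congrArg ψ h3
    rw [map_zero, map_sum, Finset.sum_congr rfl fun e he => by rw [map_smul, map_smul, hterm e he]] at h4
    intro e
    by_cases he : e ∈ F.support
    · have h5 := congrArg (MvPolynomial.coeff e) h4
      simp only [MvPolynomial.coeff_sum, MvPolynomial.coeff_smul, MvPolynomial.coeff_monomial,
        smul_eq_mul, mul_ite, mul_zero, Finset.sum_ite_eq', if_pos he, MvPolynomial.coeff_zero] at h5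
      rw [mul_comm]; exact h5
    · rw [MvPolynomial.notMem_support_iff.mp he, map_zero, mul_zero]
  have hqr : QR.QRS (Submonoid.powers (d * g1)) ζ := by
    intro m F hF hev e
    refine ⟨(d * g1) ^ (m + 1), ⟨m + 1, rfl⟩, ?_⟩
    have h1 : g1 ^ m * F.coeff e ∈ II := by
      rw [← mulMap_eq_zero_iff, map_mul, map_pow, mulMap_algebraMap]
      exact key m F hF (Ideal.pow_right_mono hJI (m + 1) hev) e
    rw [show (d * g1) ^ (m + 1) * F.coeff e = d ^ m * g1 * (d * (g1 ^ m * F.coeff e)) by ring]
    exact Ideal.mul_mem_left _ _ (hdJ _ h1)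
  refine ⟨d * g1, P.primeCompl.mul_mem hdP hg1, r, fun k => algebraMap _ _ (ζ k),
    QR.isQuasiRegular_of_qrs (Submonoid.powers (d * g1)) _ hqr, ?_⟩
  rw [QR.span_map (Localization.Away (d * g1)) ζ]
  refine le_antisymm (Ideal.map_mono hJI) (Ideal.map_le_iff_le_comap.mpr fun v hv => ?_)
  rw [Ideal.mem_comap, IsLocalization.algebraMap_mem_map_algebraMap_iff (Submonoid.powers (d * g1))]
  exact ⟨d * g1, Submonoid.mem_powers _,
    by rw [mul_right_comm]; exact Ideal.mul_mem_right _ _ (hdJ v hv)⟩

theorem isDiffSmooth_of_isLocallyQuasiRegular [Algebra.FiniteType A B]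
    (h : IsLocallyQuasiRegular (B ⊗[A] B) II) : IsDiffSmooth A B := by
  classical
  have loc : ∀ p : Ideal B, p.IsPrime → ∃ H : B ⊗[A] B, mulMap A B H ∉ p ∧
      ∃ (r : ℕ) (x : Fin r → B ⊗[A] B) (hx : ∀ i, x i ∈ II),
        (∀ v ∈ II, ∃ N : ℕ, H ^ N * v ∈ Ideal.span (Set.range x)) ∧
        QR.QRS (Submonoid.powers H) x ∧
        LB.WGB (mulMap A B H) fun i => cls A B ⟨x i, hx i⟩ := by
    intro p hp
    obtain ⟨H, hH, r, x, hx, hsp, hq⟩ := QR.exists_num h (p.comap (mulMap A B))
      (fun v hv => by rw [Ideal.mem_comap, (mulMap_eq_zero_iff A B v).mpr hv]; exact zero_mem p)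
    exact ⟨H, hH, r, x, hx, hsp, hq, QR.wgb_of_num (mulMap A B) (mulMap_surjective A B)
      (mulMap_eq_zero_iff A B) (cls A B) (Ideal.toCotangent_surjective II) (cls_smul A B)
      (cls_eq_zero_iff A B) hx hsp hq⟩
  refine (isDiffSmooth_iff A B).mpr ⟨LB.projective_of_wgb fun p hp => ?_, fun α _ => ?_⟩
  · obtain ⟨H, hH, r, x, hx, -, -, hw⟩ := loc p hp
    exact ⟨_, hH, r, _, hw⟩
  refine (injective_iff_map_eq_zero _).mpr fun q hq => ?_
  let ann : Ideal B :=
    { carrier := {b | b • q = 0}
      add_mem' := fun {a b} ha hb => by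
        simp only [Set.mem_ofPred_eq] at ha hb ⊢
        rw [add_smul, ha, hb, add_zero]
      zero_mem' := zero_smul B q
      smul_mem' := fun c a ha => by
        simp only [Set.mem_ofPred_eq] at ha ⊢
        rw [smul_eq_mul, mul_smul, ha, smul_zero] }
  suffices htop : ann = ⊤ by
    have h1 : (1 : B) ∈ ann := htop ▸ Submodule.mem_top
    exact (one_smul B q).symm.trans h1
  by_contra hne
  obtain ⟨p, hp, hle⟩ := Ideal.exists_le_maximal _ hne
  obtain ⟨H, hH, r, x, hx, hsp, hqr, hw⟩ := loc p hp.isPrime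
  set g := mulMap A B H with hgdef
  let w : Fin r → KaehlerDifferential A B := fun i => cls A B ⟨x i, hx i⟩
  let T : Submodule B (SymmetricPower B α (KaehlerDifferential A B)) :=
    Submodule.span B (Set.range fun t : α → Fin r => SymmetricPower.tprod B fun a => w (t a))
  have hT : ∀ y : SymmetricPower B α (KaehlerDifferential A B), ∃ N : ℕ, g ^ N • y ∈ T := by
    intro y
    have hy : y ∈ Submodule.span B (Set.range (SymmetricPower.tprod B (ι := α)
        (M := KaehlerDifferential A B))) := by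
      rw [SymmetricPower.span_tprod_eq_top]; trivial
    induction hy using Submodule.span_induction with
    | mem y hy =>
      obtain ⟨v, rfl⟩ := hy
      obtain ⟨N, hN⟩ := LB.eventually_pow_smul fun a => hw.1 (v a)
      choose c hc using fun a => (Submodule.mem_span_range_iff_exists_fun B).mp (hN a)
      refine ⟨N * Fintype.card α, ?_⟩
      have e1 : SymmetricPower.tprod B (fun a => g ^ N • v a) =
          g ^ (N * Fintype.card α) • SymmetricPower.tprod B v := by
        rw [MultilinearMap.map_smul_univ, Finset.prod_const, Finset.card_univ, ← pow_mul]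
      rw [← e1, show (fun a => g ^ N • v a) = fun a => ∑ k, c a k • w k from funext fun a => (hc a).symm,
        MultilinearMap.map_sum]
      refine Submodule.sum_mem _ fun t _ => ?_
      rw [MultilinearMap.map_smul_univ]
      exact Submodule.smul_mem _ _ (Submodule.subset_span ⟨t, rfl⟩)
    | zero => exact ⟨0, by simp⟩
    | add y z _ _ hy hz =>
      obtain ⟨N, hN⟩ := hy
      obtain ⟨M, hM⟩ := hz
      refine ⟨N + M, ?_⟩
      rw [smul_add]
      refine add_mem ?_ ?_
      · rw [add_comm, pow_add, mul_smul]; exact T.smul_mem _ hN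
      · rw [pow_add, mul_smul]; exact T.smul_mem _ hM
    | smul b y _ hy =>
      obtain ⟨N, hN⟩ := hy
      exact ⟨N, by rw [smul_comm]; exact T.smul_mem _ hN⟩
  obtain ⟨N, hN⟩ := hT q
  obtain ⟨c, hc⟩ := (Submodule.mem_span_range_iff_exists_fun B).mp hN
  let k := Fintype.card α
  let FB : MvPolynomial (Fin r) B := ∑ t : α → Fin r, MvPolynomial.C (c t) * ∏ a, MvPolynomial.X (t a)
  have hFB : FB.IsHomogeneous k := MvPolynomial.IsHomogeneous.sum _ _ _ fun t _ => by
    refine MvPolynomial.IsHomogeneous.C_mul ?_ _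
    have := MvPolynomial.IsHomogeneous.prod Finset.univ (fun a : α => (MvPolynomial.X (t a) : MvPolynomial (Fin r) B))
      (fun _ => 1) fun a _ => MvPolynomial.isHomogeneous_X B (t a)
    simpa [k] using this
  -- the image in the graded piece
  have hphi : ∑ t, c t • (∏ a, x (t a)) ∈ II ^ (k + 1) := by
    have h0 : phi A B α (g ^ N • q) = 0 := by rw [map_smul, hq, smul_zero]
    rw [← hc, map_sum] at h0
    have e1 : ∀ t : α → Fin r, phi A B α (c t • SymmetricPower.tprod B fun a => w (t a)) =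
        Submodule.mkQ _ (c t • (⟨∏ a, x (t a), prod_mem A B α fun a => ⟨x (t a), hx _⟩⟩ :
          ↥((II ^ k).restrictScalars B))) := by
      intro t
      rw [map_smul, map_smul, phi_tprod,
        prodClass_congr A B α (x := fun a => rep A B (w (t a))) (y := fun a => ⟨x (t a), hx _⟩)
          fun a => toCotangent_rep A B _]
      rfl
    rw [Finset.sum_congr rfl fun t _ => e1 t, ← map_sum, Submodule.mkQ_apply,
      Submodule.Quotient.mk_eq_zero, Submodule.mem_comap] at h0
    simpa using h0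
  obtain ⟨M, hM⟩ : ∃ M : ℕ, II ≤ (Ideal.span (Set.range x)).colon {H ^ M} := by
    obtain ⟨n, y, hy⟩ := Submodule.fg_iff_exists_fin_generating_family.mp
      (KaehlerDifferential.ideal_fg A B)
    obtain ⟨M, hM⟩ := LB.eventually_pow_smul (M := B ⊗[A] B) (P := y) (g := H)
      (S := Ideal.span (Set.range x)) fun i => hsp _ (hy ▸ Submodule.subset_span ⟨i, rfl⟩)
    refine ⟨M, hy ▸ Submodule.span_le.mpr ?_⟩
    rintro _ ⟨i, rfl⟩
    exact Submodule.mem_colon_singleton.mpr (by rw [smul_eq_mul, mul_comm]; exact hM i)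
  let F : MvPolynomial (Fin r) (B ⊗[A] B) :=
    MvPolynomial.C ((H ^ M) ^ (k + 1)) * MvPolynomial.map (algebraMap B (B ⊗[A] B)) FB
  have hev : MvPolynomial.eval x F ∈ Ideal.span (Set.range x) ^ (k + 1) := by
    have hle : Ideal.span {(H ^ M) ^ (k + 1)} * II ^ (k + 1) ≤ Ideal.span (Set.range x) ^ (k + 1) := by
      rw [← Ideal.span_singleton_pow, ← mul_pow]
      refine Ideal.pow_right_mono (Ideal.span_singleton_mul_le_iff.mpr fun v hv => ?_) _
      have := Submodule.mem_colon_singleton.mp (hM hv)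
      rwa [smul_eq_mul, mul_comm] at this
    have := hle (Ideal.mul_mem_mul (Ideal.mem_span_singleton_self _) hphi)
    simpa [F, FB, map_sum, map_prod, Algebra.smul_def] using this
  have hF : F.IsHomogeneous k := (hFB.map _).C_mul _
  have hcoef : ∀ e, ∃ L : ℕ, g ^ L * FB.coeff e = 0 := by
    intro e
    obtain ⟨_, ⟨L, rfl⟩, hL⟩ := hqr k F hF hev e
    refine ⟨L + M * (k + 1), ?_⟩
    have h1 : H ^ L * F.coeff e ∈ II := (Ideal.span_le.mpr (Set.range_subset_iff.mpr hx)) hL
    rw [← mulMap_eq_zero_iff] at h1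
    rw [MvPolynomial.coeff_C_mul, MvPolynomial.coeff_map] at h1
    simp only [map_mul, map_pow, mulMap_algebraMap] at h1
    rw [pow_add, pow_mul, mul_assoc]
    exact h1
  obtain ⟨L, hL⟩ := LB.eventually_pow_smul (M := B) (g := g) (S := (⊥ : Submodule B B))
    (P := fun e : FB.support => FB.coeff e.1) fun e => by simpa using hcoef e.1
  have hFB0 : g ^ L • FB = 0 := by
    ext e
    rw [MvPolynomial.coeff_smul, MvPolynomial.coeff_zero]
    by_cases he : e ∈ FB.support
    · simpa using hL ⟨e, he⟩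
    · rw [MvPolynomial.notMem_support_iff.mp he, smul_zero]
  -- pull back to the symmetric power
  obtain ⟨back, hback⟩ := Sym.exists_left_inverse_toPoly_lin (R := B) (ι := α) (ULift.{u} (Fin r))
  let W : (ULift.{u} (Fin r) →₀ B) →ₗ[B] KaehlerDifferential A B :=
    Finsupp.linearCombination B fun i => w i.down
  let pull : MvPolynomial (Fin r) B →ₗ[B] SymmetricPower B α (KaehlerDifferential A B) :=
    Sym.map W ∘ₗ back ∘ₗ (MvPolynomial.rename (ULift.up.{u} (α := Fin r))).toLinearMap
  have hpull : ∀ t : α → Fin r, pull (∏ a, MvPolynomial.X (t a)) =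
      SymmetricPower.tprod B fun a => w (t a) := by
    intro t
    have e1 : back (∏ a, MvPolynomial.X (ULift.up.{u} (t a))) =
        SymmetricPower.tprod B fun a => Finsupp.single (ULift.up.{u} (t a)) (1 : B) := by
      have := LinearMap.congr_fun hback
        (SymmetricPower.tprod B fun a => Finsupp.single (ULift.up.{u} (t a)) (1 : B))
      simpa [Sym.toPoly_tprod, Sym.lin_single] using this
    simp only [pull, LinearMap.comp_apply, AlgHom.toLinearMap_apply, map_prod, MvPolynomial.rename_X,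
      e1, Sym.map_tprod]
    simp [W]
  have hpFB : pull FB = g ^ N • q := by
    rw [← hc]
    simp only [FB, map_sum, ← MvPolynomial.smul_eq_C_mul, map_smul, hpull]
  have : g ^ (L + N) • q = 0 := by
    rw [pow_add, mul_smul, ← hpFB, ← map_smul, hFB0, map_zero]
  exact hH (hp.isPrime.mem_of_pow_mem (L + N) (hle this))

end Groth.Agent.PPH
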