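import Mathlib

/-! Symmetric powers and homogeneous polynomials. -/

set_option linter.unusedSectionVars false
set_option autoImplicit false

noncomputable section

namespace Groth.Agent.PPH.Sym

open scoped TensorProduct

universe u v w

variable {R ι : Type u} [CommRing R] {M : Type v} [AddCommGroup M] [Module R M]
  {N : Type w} [AddCommGroup N] [Module R N]

theorem hom_ext {f g : SymmetricPower R ι M →ₗ[R] N}
    (h : ∀ v : ι → M, f (SymmetricPower.tprod R v) = g (SymmetricPower.tprod R v)) : f = g :=
  LinearMap.ext_on (SymmetricPower.span_tprod_eq_top (R := R) (ι := ι) (M := M))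
    (by rintro _ ⟨v, rfl⟩; exact h v)

/-- The map out of the symmetric power given by a symmetric multilinear map. -/
def lift (f : MultilinearMap R (fun _ : ι => M) N) (hf : ∀ (e : Equiv.Perm ι) v, f (v ∘ e) = f v) :
    SymmetricPower R ι M →ₗ[R] N where
  toFun := (AddCon.lift _ (PiTensorProduct.lift f).toAddMonoidHom (AddCon.addConGen_le.mpr (by
    rintro _ _ ⟨e, v⟩
    rw [AddCon.ker_rel, LinearMap.toAddMonoidHom_coe, PiTensorProduct.lift.tprod,
      PiTensorProduct.lift.tprod]
    exact (hf e v).symm)) : SymmetricPower R ι M →+ N)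
  map_add' := map_add _
  map_smul' r x := by
    induction x using AddCon.induction_on with
    | H x => exact (PiTensorProduct.lift f).map_smul r x

theorem lift_tprod (f : MultilinearMap R (fun _ : ι => M) N)
    (hf : ∀ (e : Equiv.Perm ι) v, f (v ∘ e) = f v) (v : ι → M) :
    lift f hf (SymmetricPower.tprod R v) = f v :=
  PiTensorProduct.lift.tprod v

variable [Fintype ι]

/-- Functoriality. -/
def map {M' : Type w} [AddCommGroup M'] [Module R M'] (g : M →ₗ[R] M') :
    SymmetricPower R ι M →ₗ[R] SymmetricPower R ι M' :=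
  lift ((SymmetricPower.tprod R (ι := ι) (M := M')).compLinearMap fun _ => g) fun e v => by
    exact SymmetricPower.tprod_equiv (R := R) e (fun i => g (v i))

theorem map_tprod {M' : Type w} [AddCommGroup M'] [Module R M'] (g : M →ₗ[R] M') (v : ι → M) :
    map g (SymmetricPower.tprod R v) = SymmetricPower.tprod R fun i => g (v i) :=
  lift_tprod _ _ v

/-- Products of linear forms. -/
def toPoly {κ : Type w} (L : M →ₗ[R] MvPolynomial κ R) :
    SymmetricPower R ι M →ₗ[R] MvPolynomial κ R :=
  lift ((MultilinearMap.mkPiAlgebra R ι (MvPolynomial κ R)).compLinearMap fun _ => L) fun e v => by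
    simp only [MultilinearMap.compLinearMap_apply, MultilinearMap.mkPiAlgebra_apply,
      Function.comp_apply]
    exact Equiv.prod_comp e fun i => L (v i)

theorem toPoly_tprod {κ : Type w} (L : M →ₗ[R] MvPolynomial κ R) (v : ι → M) :
    toPoly L (SymmetricPower.tprod R v) = ∏ i, L (v i) :=
  (lift_tprod _ _ v).trans (by simp)

/-- The linear forms in the variables. -/
def lin (κ : Type w) : (κ →₀ R) →ₗ[R] MvPolynomial κ R :=
  Finsupp.linearCombination R MvPolynomial.X

theorem lin_single {κ : Type w} (j : κ) : lin κ (Finsupp.single j (1 : R)) = MvPolynomial.X j := by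
  simp [lin]

theorem exists_perm_of_count {κ : Type w} [DecidableEq κ] {t t' : ι → κ}
    (h : ∀ j, (Finset.univ.filter fun a => t a = j).card = (Finset.univ.filter fun a => t' a = j).card) :
    ∃ e : Equiv.Perm ι, t' = t ∘ e := by
  have q : ∀ j, {a // t' a = j} ≃ {a // t a = j} := fun j =>
    Fintype.equivOfCardEq (by rw [Fintype.card_subtype, Fintype.card_subtype, h j])
  let e : Equiv.Perm ι :=
    (Equiv.sigmaFiberEquiv t').symm.trans ((Equiv.sigmaCongrRight q).trans (Equiv.sigmaFiberEquiv t))
  refine ⟨e, funext fun a => ?_⟩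
  exact ((q (t' a) ⟨a, rfl⟩).2).symm

theorem expo_apply {κ : Type w} [DecidableEq κ] (t : ι → κ) (j : κ) :
    (∑ a, Finsupp.single (t a) (1 : ℕ)) j = (Finset.univ.filter fun a => t a = j).card := by
  rw [Finsupp.finsetSum_apply, Finset.card_filter]
  simp [Finsupp.single_apply]

theorem prod_X {κ : Type w} (t : ι → κ) :
    ∏ a, (MvPolynomial.X (t a) : MvPolynomial κ R) =
      MvPolynomial.monomial (∑ a, Finsupp.single (t a) 1) 1 := by
  rw [MvPolynomial.monomial_sum_one]
  rfl

theorem exists_left_inverse_toPoly_lin (κ : Type v) :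
    ∃ back : MvPolynomial κ R →ₗ[R] SymmetricPower R ι (κ →₀ R),
      back ∘ₗ toPoly (lin κ) = LinearMap.id := by
  classical
  let g : (κ →₀ ℕ) → SymmetricPower R ι (κ →₀ R) := fun p =>
    if h : ∃ t : ι → κ, ∑ a, Finsupp.single (t a) 1 = p then
      SymmetricPower.tprod R fun a => Finsupp.single (h.choose a) 1
    else 0
  let back : MvPolynomial κ R →ₗ[R] SymmetricPower R ι (κ →₀ R) :=
    (MvPolynomial.basisMonomials κ R).constr R g
  refine ⟨back, hom_ext (R := R) (ι := ι) (M := κ →₀ R)
    (N := SymmetricPower R ι (κ →₀ R)) fun v => ?_⟩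
  have key : (back ∘ₗ toPoly (lin κ)).compMultilinearMap (SymmetricPower.tprod R) =
      SymmetricPower.tprod R (ι := ι) (M := κ →₀ R) := by
    refine Module.Basis.ext_multilinear (fun _ => Finsupp.basisSingleOne) fun t => ?_
    simp only [LinearMap.compMultilinearMap_apply, LinearMap.comp_apply, Finsupp.coe_basisSingleOne,
      toPoly_tprod, lin_single, prod_X]
    rw [show MvPolynomial.monomial (∑ a, Finsupp.single (t a) 1) (1 : R) =
      MvPolynomial.basisMonomials κ R (∑ a, Finsupp.single (t a) 1) by simp]
    refine (Module.Basis.constr_basis _ R g _).trans ?_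
    have hex : ∃ t' : ι → κ, ∑ a, Finsupp.single (t' a) 1 = ∑ a, Finsupp.single (t a) (1 : ℕ) :=
      ⟨t, rfl⟩
    simp only [g, dif_pos hex]
    obtain ⟨e, he⟩ := exists_perm_of_count (t := t) (t' := hex.choose) fun j => by
      rw [← expo_apply t, ← expo_apply hex.choose, hex.choose_spec]
    rw [he]
    exact SymmetricPower.tprod_equiv (R := R) e (fun a => Finsupp.single (t a) (1 : R))
  exact congrArg (fun f : MultilinearMap R (fun _ : ι => κ →₀ R) _ => f v) key

theorem toPoly_lin_injective (κ : Type v) :
    Function.Injective (toPoly (ι := ι) (lin (R := R) κ)) := by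
  obtain ⟨back, h⟩ := exists_left_inverse_toPoly_lin (R := R) (ι := ι) κ
  exact Function.LeftInverse.injective (g := back) (fun x => LinearMap.congr_fun h x)

theorem toPoly_comp_injective {κ : Type v} (i : M →ₗ[R] κ →₀ R) (r : (κ →₀ R) →ₗ[R] M)
    (h : r ∘ₗ i = LinearMap.id) : Function.Injective (toPoly (ι := ι) (lin κ ∘ₗ i)) := by
  have e : toPoly (ι := ι) (lin κ ∘ₗ i) = toPoly (lin κ) ∘ₗ map i :=
    hom_ext fun v => by simp [toPoly_tprod, map_tprod]
  rw [e]
  refine (toPoly_lin_injective κ).comp (Function.LeftInverse.injective (g := map r) fun x => ?_)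
  refine LinearMap.congr_fun (f := map r ∘ₗ map i) (g := LinearMap.id) (hom_ext fun v => ?_) x
  simp only [LinearMap.comp_apply, map_tprod, LinearMap.id_apply]
  congr 1
  funext a
  exact LinearMap.congr_fun h (v a)

theorem projective [Module.Projective R M] : Module.Projective R (SymmetricPower R ι M) := by
  obtain ⟨i, hi⟩ := Module.projective_def'.mp (inferInstance : Module.Projective R M)
  have hsplit : (map (ι := ι) (Finsupp.linearCombination R (id : M → M))) ∘ₗ map i = LinearMap.id := by
    refine hom_ext fun v => ?_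
    simp only [LinearMap.comp_apply, map_tprod, LinearMap.id_apply]
    congr 1
    funext a
    exact LinearMap.congr_fun hi (v a)
  classical
  have hfree : Module.Projective R (SymmetricPower R ι (M →₀ R)) := by
    obtain ⟨back, h⟩ := exists_left_inverse_toPoly_lin (R := R) (ι := ι) M
    exact Module.Projective.of_split (toPoly (lin M)) back h
  exact Module.Projective.of_split (map i) (map (Finsupp.linearCombination R id)) hsplit

end Groth.Agent.PPH.Sym
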