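import Groth.Agent.PPH.Basic
import Groth.Agent.PPH.SymPow

/-! The canonical map from symmetric powers of differentials to the graded pieces. -/

set_option linter.unusedSectionVars false
set_option autoImplicit false

noncomputable section

namespace Groth.Agent.PPH

open PP16
open scoped TensorProduct

universe u

theorem prod_sub_prod_mem {R : Type*} [CommRing R] (I : Ideal R) {ι : Type*} (x y : ι → R)
    (s : Finset ι) (hy : ∀ i ∈ s, y i ∈ I) (hxy : ∀ i ∈ s, x i - y i ∈ I ^ 2) :
    ∏ i ∈ s, x i - ∏ i ∈ s, y i ∈ I ^ (s.card + 1) := by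
  classical
  induction s using Finset.induction_on with
  | empty => simp
  | insert a s ha ih =>
    have hy' : ∏ i ∈ s, y i ∈ I ^ s.card := by
      have h := Ideal.prod_mem_prod (ι := ι) (I := fun _ => I) (s := s) (x := y)
        fun i hi => hy i (by simp [hi])
      simpa using h
    have hxa : x a ∈ I := by
      have h1 := Ideal.pow_le_self (by omega : 2 ≠ 0) (hxy a (by simp))
      simpa using add_mem h1 (hy a (by simp))
    rw [Finset.prod_insert ha, Finset.prod_insert ha, Finset.card_insert_of_notMem ha,
      show x a * ∏ i ∈ s, x i - y a * ∏ i ∈ s, y i =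
        x a * (∏ i ∈ s, x i - ∏ i ∈ s, y i) + (x a - y a) * ∏ i ∈ s, y i by ring]
    refine add_mem ?_ ?_
    · rw [pow_succ']
      exact Ideal.mul_mem_mul hxa
        (ih (fun i hi => hy i (by simp [hi])) (fun i hi => hxy i (by simp [hi])))
    · rw [show s.card + 1 + 1 = 2 + s.card by omega, pow_add]
      exact Ideal.mul_mem_mul (hxy a (by simp)) hy'

theorem multilinear_ext_span {R ι M N : Type*} [CommRing R] [Finite ι] [AddCommGroup M] [Module R M]
    [AddCommGroup N] [Module R N] {S : Set M} (hS : Submodule.span R S = ⊤)
    {f g : MultilinearMap R (fun _ : ι => M) N}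
    (h : ∀ v : ι → M, (∀ a, v a ∈ S) → f v = g v) : f = g := by
  classical
  have := Fintype.ofFinite ι
  suffices key : ∀ (s : Finset ι) (v : ι → M), (∀ a ∉ s, v a ∈ S) → f v = g v from
    MultilinearMap.ext fun v => key Finset.univ v (by simp)
  intro s
  induction s using Finset.induction_on with
  | empty => exact fun v hv => h v fun a => hv a (by simp)
  | insert c t hc ih =>
    intro v hv
    have hx : v c ∈ Submodule.span R S := by rw [hS]; trivial
    have hlin : ∀ x, x ∈ Submodule.span R S →
        f (Function.update v c x) = g (Function.update v c x) := by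
      intro x hx
      induction hx using Submodule.span_induction with
      | mem y hy =>
        refine ih _ fun a ha => ?_
        by_cases hac : a = c
        · subst hac; simpa using hy
        · rw [Function.update_of_ne hac]; exact hv a (by simp [hac, ha])
      | zero => simp
      | add y z _ _ hy hz => simp [hy, hz]
      | smul r y _ hy => simp [hy]
    simpa using hlin _ hx

variable (A B : Type u) [CommRing A] [CommRing B] [Algebra A B]

local notation "II" => KaehlerDifferential.ideal A B

/-- `1 ⊗ b - b ⊗ 1`. -/
def del (b : B) : B ⊗[A] B := (1 : B) ⊗ₜ[A] b - b ⊗ₜ[A] (1 : B)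

theorem del_mem (b : B) : del A B b ∈ II :=
  KaehlerDifferential.one_smul_sub_smul_one_mem_ideal A b

theorem D_eq (b : B) :
    KaehlerDifferential.D A B b = Ideal.toCotangent II ⟨del A B b, del_mem A B b⟩ :=
  KaehlerDifferential.D_apply A B b

/-- A representative of a differential. -/
def rep (w : KaehlerDifferential A B) : II :=
  Function.surjInv (Ideal.toCotangent_surjective II) w

theorem toCotangent_rep (w : KaehlerDifferential A B) : Ideal.toCotangent II (rep A B w) = w :=
  Function.surjInv_eq (Ideal.toCotangent_surjective II) w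

theorem sub_rep_mem (x : II) :
    (x : B ⊗[A] B) - (rep A B (Ideal.toCotangent II x) : B ⊗[A] B) ∈ II ^ 2 :=
  (Ideal.toCotangent_eq _).mp (toCotangent_rep A B _).symm

variable (ι : Type u) [Fintype ι]

theorem prod_mem (x : ι → II) : (∏ a, (x a : B ⊗[A] B)) ∈ II ^ Fintype.card ι := by
  simpa using prod_mem_pow II Finset.univ (fun a => (x a : B ⊗[A] B)) fun a _ => (x a).2

/-- The class of a product. -/
def prodClass (x : ι → II) : grI A B (Fintype.card ι) :=
  Submodule.Quotient.mk ⟨∏ a, (x a : B ⊗[A] B), prod_mem A B ι x⟩

theorem prodClass_congr {x y : ι → II}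
    (h : ∀ a, Ideal.toCotangent II (x a) = Ideal.toCotangent II (y a)) :
    prodClass A B ι x = prodClass A B ι y := by
  refine (Submodule.Quotient.eq _).mpr ?_
  exact prod_sub_prod_mem II (fun a => (x a : B ⊗[A] B)) (fun a => y a) Finset.univ
    (fun a _ => (y a).2) fun a _ => (Ideal.toCotangent_eq _).mp (h a)

/-- The multilinear map on differentials. -/
def prodMulti : MultilinearMap B (fun _ : ι => KaehlerDifferential A B) (grI A B (Fintype.card ι)) where
  toFun w := prodClass A B ι fun a => rep A B (w a)
  map_update_add' := by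
    intro _ w a p q
    let X : II → (ι → II) := fun z => Function.update (fun c => rep A B (w c)) a z
    have hu : ∀ p', prodClass A B ι (fun c => rep A B (Function.update w a p' c)) =
        prodClass A B ι (X (rep A B p')) := fun p' => congrArg _ (funext fun c => by
      by_cases h : c = a
      · subst h; simp [X]
      · simp [X, h])
    rw [hu, hu, hu, prodClass_congr A B ι (x := X (rep A B (p + q))) (y := X (rep A B p + rep A B q))
      (fun c => by
        by_cases h : c = a
        · subst h; simp [X, toCotangent_rep]; rfl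
        · simp [X, h])]
    change Submodule.Quotient.mk _ = Submodule.Quotient.mk _ + Submodule.Quotient.mk _
    rw [← Submodule.Quotient.mk_add]
    congr 1
    apply Subtype.ext
    have hprod : ∀ z : II, (∏ c, (X z c : B ⊗[A] B)) =
        (z : B ⊗[A] B) * ∏ c ∈ Finset.univ \ {a}, (rep A B (w c) : B ⊗[A] B) := fun z => by
      rw [← Finset.prod_update_of_mem (Finset.mem_univ a)]
      exact Finset.prod_congr rfl fun c _ =>
        Function.apply_update (fun _ (y : II) => (y : B ⊗[A] B)) _ a z c
    change (∏ c, (X (rep A B p + rep A B q) c : B ⊗[A] B)) =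
      (∏ c, (X (rep A B p) c : B ⊗[A] B)) + ∏ c, (X (rep A B q) c : B ⊗[A] B)
    rw [hprod, hprod, hprod, Submodule.coe_add, add_mul]
  map_update_smul' := by
    intro _ w a r p
    let X : II → (ι → II) := fun z => Function.update (fun c => rep A B (w c)) a z
    have hu : ∀ p', prodClass A B ι (fun c => rep A B (Function.update w a p' c)) =
        prodClass A B ι (X (rep A B p')) := fun p' => congrArg _ (funext fun c => by
      by_cases h : c = a
      · subst h; simp [X]
      · simp [X, h])
    have hsm : Ideal.toCotangent II (algebraMap B (B ⊗[A] B) r • rep A B p) = r • p := by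
      rw [map_smul, toCotangent_rep]
      exact algebraMap_smul (B ⊗[A] B) r p
    rw [hu, hu, prodClass_congr A B ι (x := X (rep A B (r • p)))
      (y := X (algebraMap B (B ⊗[A] B) r • rep A B p))
      (fun c => by
        by_cases h : c = a
        · subst h; simp only [X, Function.update_self]; rw [toCotangent_rep]; exact hsm.symm
        · simp [X, h])]
    change Submodule.Quotient.mk _ = r • Submodule.Quotient.mk _
    rw [← Submodule.Quotient.mk_smul]
    congr 1
    apply Subtype.ext
    have hprod : ∀ z : II, (∏ c, (X z c : B ⊗[A] B)) =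
        (z : B ⊗[A] B) * ∏ c ∈ Finset.univ \ {a}, (rep A B (w c) : B ⊗[A] B) := fun z => by
      rw [← Finset.prod_update_of_mem (Finset.mem_univ a)]
      exact Finset.prod_congr rfl fun c _ =>
        Function.apply_update (fun _ (y : II) => (y : B ⊗[A] B)) _ a z c
    change (∏ c, (X (algebraMap B (B ⊗[A] B) r • rep A B p) c : B ⊗[A] B)) =
      r • ∏ c, (X (rep A B p) c : B ⊗[A] B)
    rw [hprod, hprod, Algebra.smul_def, Submodule.coe_smul, smul_eq_mul, mul_assoc]

/-- The canonical map. -/
def phi : SymmetricPower B ι (KaehlerDifferential A B) →ₗ[B] grI A B (Fintype.card ι) :=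
  Sym.lift (prodMulti A B ι) fun e w => by
    refine (Submodule.Quotient.eq _).mpr ?_
    have : (∏ a, (rep A B ((w ∘ e) a) : B ⊗[A] B)) = ∏ a, (rep A B (w a) : B ⊗[A] B) :=
      Equiv.prod_comp e fun a => (rep A B (w a) : B ⊗[A] B)
    rw [Submodule.mem_comap, map_sub]
    change (∏ a, (rep A B ((w ∘ e) a) : B ⊗[A] B)) - ∏ a, (rep A B (w a) : B ⊗[A] B) ∈ _
    rw [this, sub_self]
    exact zero_mem _

theorem phi_tprod (w : ι → KaehlerDifferential A B) :
    phi A B ι (SymmetricPower.tprod B w) = prodClass A B ι fun a => rep A B (w a) :=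
  Sym.lift_tprod _ _ w

theorem phi_tprod_D (b : ι → B) :
    phi A B ι (SymmetricPower.tprod B fun a => KaehlerDifferential.D A B (b a)) =
      zetaProd A B b := by
  rw [phi_tprod]
  exact prodClass_congr A B ι (y := fun a => ⟨del A B (b a), del_mem A B (b a)⟩) fun a => by
    rw [toCotangent_rep, D_eq]

theorem span_zetaProd : Submodule.span B (Set.range (zetaProd A B (ι := ι))) = ⊤ := by
  classical
  let k := Fintype.card ι
  let N := Submodule.span B (Set.range (zetaProd A B (ι := ι)))
  -- the ideal `II ^ m` is generated by products of `m` elements `del`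
  have hpow : ∀ (s : Finset ι), II ^ s.card ≤
      Ideal.span (Set.range fun b : ι → B => ∏ a ∈ s, del A B (b a)) := by
    intro s
    induction s using Finset.induction_on with
    | empty =>
      intro x _
      have h1 : (1 : B ⊗[A] B) ∈
          Ideal.span (Set.range fun b : ι → B => ∏ a ∈ (∅ : Finset ι), del A B (b a)) :=
        Ideal.subset_span ⟨fun _ => 0, by simp⟩
      simpa using Ideal.mul_mem_left _ x h1
    | insert c t hc ih =>
      rw [Finset.card_insert_of_notMem hc, pow_succ']
      refine (Ideal.mul_mono (KaehlerDifferential.span_range_eq_ideal A B).ge ih).trans ?_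
      rw [Ideal.span_mul_span', Ideal.span_le]
      rintro _ ⟨_, ⟨b, rfl⟩, _, ⟨v, rfl⟩, rfl⟩
      refine Ideal.subset_span ⟨Function.update v c b, ?_⟩
      simp only [Finset.prod_insert hc, Function.update_self]
      change _ * _ = del A B b * _
      congr 1
      exact Finset.prod_congr rfl fun a ha => by
        rw [Function.update_of_ne (fun h => hc (by rwa [h] at ha))]
  rw [eq_top_iff]
  intro q hq
  clear hq
  induction q using Submodule.Quotient.induction_on with | H y =>
  obtain ⟨y, hy⟩ := y
  suffices h : ∀ (x : B ⊗[A] B) (hx : x ∈ II ^ k), (Submodule.Quotient.mk ⟨x, hx⟩ : grI A B k) ∈ N from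
    h y hy
  intro x hx
  have hx' := hpow Finset.univ (by simpa [Finset.card_univ, k] using hx)
  have main : ∀ z, z ∈ Ideal.span (Set.range fun b : ι → B => ∏ a, del A B (b a)) →
      ∀ hz : z ∈ II ^ k, (Submodule.Quotient.mk ⟨z, hz⟩ : grI A B k) ∈ N := by
    intro z hzs
    obtain ⟨c, rfl⟩ := Finsupp.mem_span_range_iff_exists_finsupp.mp hzs
    intro hz
    have e : (Submodule.Quotient.mk ⟨_, hz⟩ : grI A B k) =
        ∑ b ∈ c.support, (Algebra.TensorProduct.lmul' A (c b)) • zetaProd A B b := by
      have h1 : ∀ b : ι → B, (Algebra.TensorProduct.lmul' A (c b)) • zetaProd A B b =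
          Submodule.mkQ _ ⟨(Algebra.TensorProduct.lmul' A (c b)) • (∏ a, del A B (b a)),
            Submodule.smul_mem _ _ (by
              simpa using prod_mem A B ι fun a => ⟨del A B (b a), del_mem A B (b a)⟩)⟩ :=
        fun b => rfl
      rw [Finset.sum_congr rfl fun b _ => h1 b, ← map_sum]
      refine (Submodule.Quotient.eq _).mpr ?_
      rw [Submodule.mem_comap, map_sub]
      simp only [map_sum, Submodule.subtype_apply, Finsupp.sum]
      rw [← Finset.sum_sub_distrib]
      refine Submodule.sum_mem _ fun b _ => ?_
      simp only [Algebra.smul_def, Algebra.algebraMap_self_apply, ← sub_mul]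
      change _ ∈ II ^ (k + 1)
      rw [pow_succ']
      refine Ideal.mul_mem_mul ?_ (by
        simpa using prod_mem A B ι fun a => ⟨del A B (b a), del_mem A B (b a)⟩)
      change Algebra.TensorProduct.lmul' A (c b - algebraMap B (B ⊗[A] B) _) = 0
      rw [map_sub, Algebra.TensorProduct.algebraMap_apply, Algebra.TensorProduct.lmul'_apply_tmul]
      simp
    rw [e]
    exact Submodule.sum_mem _ fun b _ => Submodule.smul_mem _ _ (Submodule.subset_span ⟨b, rfl⟩)
  exact main x hx' hx

theorem phi_surjective : Function.Surjective (phi A B ι) := by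
  rw [← LinearMap.range_eq_top, eq_top_iff, ← span_zetaProd A B ι, Submodule.span_le]
  rintro _ ⟨b, rfl⟩
  exact ⟨_, phi_tprod_D A B ι b⟩

variable {ι A B}

theorem eq_phi (φ : SymmetricPower B ι (KaehlerDifferential A B) →ₗ[B] grI A B (Fintype.card ι))
    (h : ∀ b : ι → B, φ (SymmetricPower.tprod B fun a => KaehlerDifferential.D A B (b a)) =
      zetaProd A B b) : φ = phi A B ι := by
  refine Sym.hom_ext fun w => ?_
  have key : φ.compMultilinearMap (SymmetricPower.tprod B) =
      (phi A B ι).compMultilinearMap (SymmetricPower.tprod B) := by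
    refine multilinear_ext_span (KaehlerDifferential.span_range_derivation A B) fun v hv => ?_
    choose b hb using hv
    rw [show v = fun a => KaehlerDifferential.D A B (b a) from funext fun a => (hb a).symm]
    simp only [LinearMap.compMultilinearMap_apply]
    exact (h b).trans (phi_tprod_D A B ι b).symm
  exact congrArg (fun f : MultilinearMap B (fun _ : ι => KaehlerDifferential A B) _ => f w) key

variable (A B)

theorem isDiffSmooth_iff :
    IsDiffSmooth A B ↔ Module.Projective B (KaehlerDifferential A B) ∧
      ∀ (ι : Type u) [Fintype ι], Function.Injective (phi A B ι) := by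
  refine and_congr_right fun _ => ⟨fun h ι _ => ?_, fun h ι _ => ?_⟩
  · obtain ⟨φ, hφ, hb⟩ := h ι
    rw [← eq_phi φ hφ]
    exact hb.1
  · exact ⟨phi A B ι, phi_tprod_D A B ι, h ι, phi_surjective A B ι⟩

end Groth.Agent.PPH
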