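import Groth.Agent.PPH.Criterion
import Groth.Agent.S2796
import Groth.Prelude.Def_DiffOp
import Mathlib.Algebra.Group.ForwardDiff

/-! Monomials in `1 ⊗ z_i - z_i ⊗ 1` and the divided power operators. -/

set_option linter.unusedSectionVars false
set_option autoImplicit false

noncomputable section

namespace Groth.Agent.PPH

open PP16
open scoped TensorProduct

universe u

variable {A B : Type u} [CommRing A] [CommRing B] [Algebra A B]
variable {ι : Type} [Fintype ι] [DecidableEq ι] (z : ι → B)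

local notation "II" => KaehlerDifferential.ideal A B

variable (A) in
/-- The monomial `∏ (1 ⊗ z_i - z_i ⊗ 1)^(q_i)`. -/
def zmon (q : ι → ℕ) : B ⊗[A] B := ∏ i, del A B (z i) ^ q i

theorem zmon_mem (q : ι → ℕ) : zmon A z q ∈ II ^ (∑ i, q i) := by
  rw [zmon, ← Finset.prod_pow_eq_pow_sum]
  exact Ideal.prod_mem_prod fun i _ => Ideal.pow_mem_pow (del_mem A B (z i)) _

theorem zmon_mul (q q' : ι → ℕ) : zmon A z q * zmon A z q' = zmon A z (q + q') := by
  simp [zmon, ← Finset.prod_mul_distrib, pow_add]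

theorem prod_del_eq_zmon {α : Type*} [Fintype α] (t : α → ι) :
    ∏ a, del A B (z (t a)) = zmon A z fun i => (Finset.univ.filter fun a => t a = i).card := by
  rw [zmon, ← Finset.prod_fiberwise_of_maps_to (g := t) fun a _ => Finset.mem_univ (t a)]
  refine Finset.prod_congr rfl fun i _ => ?_
  rw [Finset.prod_congr rfl fun a ha => by rw [(Finset.mem_filter.mp ha).2], Finset.prod_const]

theorem prod_tmul {α : Type*} (s : Finset α) (x y : α → B) :
    ∏ a ∈ s, (x a ⊗ₜ[A] y a) = (∏ a ∈ s, x a) ⊗ₜ[A] ∏ a ∈ s, y a := by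
  classical
  induction s using Finset.induction_on with
  | empty => rfl
  | insert a s ha ih => simp [Finset.prod_insert ha, ih, Algebra.TensorProduct.tmul_mul_tmul]

theorem zmon_eq_sum (q : ι → ℕ) :
    zmon A z q = ∑ s ∈ Fintype.piFinset fun i => Finset.range (q i + 1),
      (∏ i, ((-1) ^ (q i - s i) * ((q i).choose (s i) : B) * z i ^ (q i - s i))) ⊗ₜ[A] ∏ i, z i ^ s i := by
  have e : ∀ i, del A B (z i) ^ q i = ∑ j ∈ Finset.range (q i + 1),
      ((-1) ^ (q i - j) * ((q i).choose j : B) * z i ^ (q i - j)) ⊗ₜ[A] (z i ^ j) := by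
    intro i
    rw [del, sub_eq_add_neg, add_pow]
    refine Finset.sum_congr rfl fun j _ => ?_
    rw [← TensorProduct.neg_tmul, Algebra.TensorProduct.tmul_pow, Algebra.TensorProduct.tmul_pow,
      one_pow, one_pow, Algebra.TensorProduct.tmul_mul_tmul, one_mul, mul_one, neg_pow (z i),
      show ((q i).choose j : B ⊗[A] B) = ((q i).choose j : B) ⊗ₜ[A] (1 : B) from
        (map_natCast (Algebra.TensorProduct.includeLeft (R := A) (S := A) (A := B) (B := B)) _).symm,
      Algebra.TensorProduct.tmul_mul_tmul, mul_one]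
    congr 1
    ring
  rw [zmon, Finset.prod_congr rfl fun i _ => e i, Finset.prod_univ_sum]
  exact Finset.sum_congr rfl fun s _ => prod_tmul _ _ _

theorem one_tmul_monomial (q : ι → ℕ) :
    (1 : B) ⊗ₜ[A] ∏ i, z i ^ q i = ∑ s ∈ Fintype.piFinset fun i => Finset.range (q i + 1),
      (∏ i, ((q i).choose (s i) : B) * z i ^ (q i - s i)) • zmon A z s := by
  have e : ∀ i, (1 : B) ⊗ₜ[A] (z i ^ q i) = ∑ j ∈ Finset.range (q i + 1),
      ((q i).choose j : B ⊗[A] B) * ((z i ^ (q i - j)) ⊗ₜ[A] (1 : B)) * del A B (z i) ^ j := by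
    intro i
    have h : (1 : B) ⊗ₜ[A] z i = del A B (z i) + z i ⊗ₜ[A] (1 : B) := by simp [del]
    rw [← one_pow (M := B) (q i), ← Algebra.TensorProduct.tmul_pow, h, add_pow]
    refine Finset.sum_congr rfl fun j _ => ?_
    rw [Algebra.TensorProduct.tmul_pow, one_pow]
    ring_nf
  calc (1 : B) ⊗ₜ[A] ∏ i, z i ^ q i = ∏ i, (1 : B) ⊗ₜ[A] (z i ^ q i) := by
        rw [prod_tmul, Finset.prod_const_one]
    _ = _ := by
        rw [Finset.prod_congr rfl fun i _ => e i, Finset.prod_univ_sum]
        refine Finset.sum_congr rfl fun s _ => ?_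
        rw [Algebra.smul_def, map_prod, zmon, ← Finset.prod_mul_distrib]
        refine Finset.prod_congr rfl fun i _ => ?_
        rw [map_mul, map_natCast, Algebra.TensorProduct.algebraMap_apply, Algebra.algebraMap_self,
          RingHom.id_apply]

theorem sum_choose_alt (p q : ℕ) :
    ∑ s ∈ Finset.range (q + 1), (-1 : B) ^ (q - s) * (q.choose s : B) * (s.choose p : B) =
      if p = q then 1 else 0 := by
  have h := congrArg (fun x : ℤ => (x : B)) (fwdDiff_iter_choose_zero p q)
  rw [fwdDiff_iter_eq_sum_shift] at h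
  simp only [smul_eq_mul, zero_add, mul_one] at h
  push_cast at h
  simpa [eq_comm] using h

section Operators

variable (Dp : (ι → ℕ) → (B →ₗ[A] B))
  (hDz : ∀ p q : ι → ℕ, Dp p (∏ i, z i ^ q i) =
    ((∏ i, Nat.choose (q i) (p i) : ℕ) : B) * ∏ i, z i ^ (q i - p i))

/-- The linearisation, linear for the first factor. -/
def linB (D : B →ₗ[A] B) : B ⊗[A] B →ₗ[B] B := D.liftBaseChange B

theorem linB_tmul (D : B →ₗ[A] B) (b c : B) : linB D (b ⊗ₜ[A] c) = b * D c := by
  simp [linB]

theorem linB_eq_linearize (D : B →ₗ[A] B) (x : B ⊗[A] B) :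
    linB D x = Diff16.linearize A B B B D x := by
  induction x using TensorProduct.induction_on with
  | zero => simp
  | tmul b c => simp [linB_tmul, Diff16.linearize]
  | add x y hx hy => simp [hx, hy]

theorem isDiffOpLE_iff (n : ℕ) (D : B →ₗ[A] B) :
    Diff16.IsDiffOpLE A B B B n D ↔ ∀ x ∈ II ^ (n + 1), linB D x = 0 :=
  (Groth.Agent.S2796.result A B B n D).trans (by simp only [linB_eq_linearize])

include hDz in
theorem linB_zmon (p q : ι → ℕ) : linB (Dp p) (zmon A z q) = if p = q then 1 else 0 := by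
  rw [zmon_eq_sum, map_sum]
  have e : ∀ s : ι → ℕ, linB (Dp p) ((∏ i, ((-1) ^ (q i - s i) * ((q i).choose (s i) : B) * z i ^ (q i - s i))) ⊗ₜ[A]
      ∏ i, z i ^ s i) = ∏ i, ((-1) ^ (q i - s i) * ((q i).choose (s i) : B) * z i ^ (q i - s i) *
        (((s i).choose (p i) : B) * z i ^ (s i - p i))) := by
    intro s
    rw [linB_tmul, hDz, Nat.cast_prod, ← Finset.prod_mul_distrib, ← Finset.prod_mul_distrib]
  rw [Finset.sum_congr rfl fun s _ => e s, ← Finset.prod_univ_sum (fun i => Finset.range (q i + 1))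
    fun i j => (-1) ^ (q i - j) * ((q i).choose j : B) * z i ^ (q i - j) *
        ((j.choose (p i) : B) * z i ^ (j - p i))]
  have h1 : ∀ i, (∑ j ∈ Finset.range (q i + 1), (-1) ^ (q i - j) * ((q i).choose j : B) * z i ^ (q i - j) *
      ((j.choose (p i) : B) * z i ^ (j - p i))) = if p i = q i then 1 else 0 := by
    intro i
    have : ∀ j ∈ Finset.range (q i + 1), (-1) ^ (q i - j) * ((q i).choose j : B) * z i ^ (q i - j) *
        ((j.choose (p i) : B) * z i ^ (j - p i)) =
        ((-1) ^ (q i - j) * ((q i).choose j : B) * (j.choose (p i) : B)) * z i ^ (q i - p i) := by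
      intro j hj
      rcases Nat.lt_or_ge j (p i) with h | h
      · simp [Nat.choose_eq_zero_of_lt h]
      · rw [show q i - p i = (q i - j) + (j - p i) by have := Finset.mem_range.mp hj; omega, pow_add]
        ring
    rw [Finset.sum_congr rfl this, ← Finset.sum_mul, sum_choose_alt]
    split_ifs with h <;> simp [h]
  rw [Finset.prod_congr rfl fun i _ => h1 i]
  split_ifs with h
  · simp [h]
  · obtain ⟨i, hi⟩ := Function.ne_iff.mp h
    exact Finset.prod_eq_zero (Finset.mem_univ i) (if_neg hi)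

end Operators

section Span

variable (hz : Submodule.span B (Set.range fun i => KaehlerDifferential.D A B (z i)) = ⊤)
include hz

theorem pow_le_span_sup (k : ℕ) :
    ∀ x ∈ II ^ k, x ∈ Submodule.span B (zmon A z '' {q | ∑ i, q i = k}) ⊔
      (II ^ (k + 1)).restrictScalars B := by
  induction k with
  | zero =>
    intro x _
    refine Submodule.mem_sup.mpr ⟨(Algebra.TensorProduct.lmul' A x) • (1 : B ⊗[A] B),
      Submodule.smul_mem _ _ (Submodule.subset_span ⟨0, by simp, by simp [zmon]⟩),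
      x - (Algebra.TensorProduct.lmul' A x) • (1 : B ⊗[A] B), ?_, add_sub_cancel _ _⟩
    rw [zero_add, pow_one]
    change Algebra.TensorProduct.lmul' A _ = 0
    rw [map_sub, ← Algebra.algebraMap_eq_smul_one, Algebra.TensorProduct.algebraMap_apply,
      Algebra.TensorProduct.lmul'_apply_tmul]
    simp
  | succ k ih =>
    intro x hx
    rw [pow_succ] at hx
    refine Submodule.mul_induction_on hx (fun y hy w hw => ?_) fun a b ha hb => add_mem ha hb
    obtain ⟨y1, hy1, y2, hy2, rfl⟩ := Submodule.mem_sup.mp (ih y hy)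
    let ww : KaehlerDifferential A B := Ideal.toCotangent II ⟨w, hw⟩
    have hw' : ww ∈ Submodule.span B (Set.range fun i => KaehlerDifferential.D A B (z i)) := by
      rw [hz]; trivial
    obtain ⟨c, hc⟩ := (Submodule.mem_span_range_iff_exists_fun B).mp hw'
    set w1 := ∑ i, c i • del A B (z i)
    have hw1' : w1 ∈ II := Submodule.sum_mem _ fun i _ => by
      rw [Algebra.smul_def]; exact Ideal.mul_mem_left _ _ (del_mem A B _)
    have hw2 : w - w1 ∈ II ^ 2 := by
      refine (Ideal.toCotangent_eq (x := ⟨w, hw⟩) (y := ⟨w1, hw1'⟩) _).mp ?_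
      change ww = _
      rw [← hc]
      have e : (⟨w1, hw1'⟩ : II) = ∑ i, algebraMap B (B ⊗[A] B) (c i) • (⟨del A B (z i), del_mem A B _⟩ : II) := by
        apply Subtype.ext
        simp [w1, Algebra.smul_def]
      rw [e, map_sum]
      refine Finset.sum_congr rfl fun i _ => ?_
      rw [map_smul, ← D_eq]
      exact (algebraMap_smul (B ⊗[A] B) (c i) _).symm
    have hy1' : y1 ∈ II ^ k := by
      have hle : Submodule.span B (zmon A z '' {q | ∑ i, q i = k}) ≤ (II ^ k).restrictScalars B :=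
        Submodule.span_le.mpr (by rintro _ ⟨q, hq, rfl⟩; exact hq ▸ zmon_mem z q)
      exact hle hy1
    rw [show (y1 + y2) * w = y1 * w1 + (y1 * (w - w1) + y2 * w) by ring]
    refine Submodule.add_mem_sup ?_ (add_mem ?_ ?_)
    · have hw1 : w1 ∈ Submodule.span B (zmon A z '' {q | ∑ i, q i = 1}) := Submodule.sum_mem _ fun i _ =>
        Submodule.smul_mem _ _ (Submodule.subset_span ⟨Pi.single i 1, by simp, by
          simp [zmon, Pi.single_apply, pow_ite]⟩)
      have := Submodule.mul_mem_mul hy1 hw1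
      rw [Submodule.span_mul_span] at this
      refine Submodule.span_mono ?_ this
      rintro _ ⟨_, ⟨q, hq, rfl⟩, _, ⟨q', hq', rfl⟩, rfl⟩
      refine ⟨q + q', ?_, (zmon_mul z q q').symm⟩
      change ∑ i, q i = k at hq
      change ∑ i, q' i = 1 at hq'
      change ∑ i, (q + q') i = k + 1
      simp [Finset.sum_add_distrib, hq, hq']
    · change y1 * (w - w1) ∈ II ^ (k + 1 + 1)
      rw [show k + 1 + 1 = k + 2 from rfl, pow_add]
      exact Ideal.mul_mem_mul hy1' hw2
    · change y2 * w ∈ II ^ (k + 1 + 1)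
      rw [pow_succ]
      exact Ideal.mul_mem_mul hy2 hw

theorem pow_le_span (k m : ℕ) (hk : k ≤ m + 1) :
    ∀ x ∈ II ^ k, x ∈ Submodule.span B (zmon A z '' {q | k ≤ ∑ i, q i ∧ ∑ i, q i ≤ m}) ⊔
      (II ^ (m + 1)).restrictScalars B := by
  induction hd : m + 1 - k generalizing k with
  | zero =>
    intro x hx
    have : k = m + 1 := by omega
    subst this
    exact Submodule.mem_sup_right hx
  | succ d ih =>
    intro x hx
    obtain ⟨a, ha, b, hb, rfl⟩ := Submodule.mem_sup.mp (pow_le_span_sup z hz k x hx)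
    refine add_mem (Submodule.mem_sup_left (Submodule.span_mono (Set.image_mono fun q hq => ?_) ha)) ?_
    · change ∑ i, q i = k at hq
      exact ⟨hq.ge, by omega⟩
    · have := ih (k + 1) (by omega) (by omega) b hb
      have hsub : zmon A z '' {q : ι → ℕ | k + 1 ≤ ∑ i, q i ∧ ∑ i, q i ≤ m} ⊆
          zmon A z '' {q : ι → ℕ | k ≤ ∑ i, q i ∧ ∑ i, q i ≤ m} :=
        Set.image_mono fun q hq => ⟨by have := hq.1; omega, hq.2⟩
      have hle := sup_le_sup_right (Submodule.span_mono (R := B) hsub) ((II ^ (m + 1)).restrictScalars B)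
      exact hle this

theorem mem_span_zmon (m : ℕ) (x : B ⊗[A] B) :
    x ∈ Submodule.span B (zmon A z '' {q | ∑ i, q i ≤ m}) ⊔ (II ^ (m + 1)).restrictScalars B := by
  have := pow_le_span z hz 0 m (Nat.zero_le _) x (by simp)
  have hsub : zmon A z '' {q : ι → ℕ | 0 ≤ ∑ i, q i ∧ ∑ i, q i ≤ m} ⊆
      zmon A z '' {q : ι → ℕ | ∑ i, q i ≤ m} := Set.image_mono fun q hq => hq.2
  have hle := sup_le_sup_right (Submodule.span_mono (R := B) hsub) ((II ^ (m + 1)).restrictScalars B)
  exact hle this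

theorem linB_eq_zero (L : B ⊗[A] B →ₗ[B] B) (k m : ℕ) (hk : k ≤ m + 1) (hI : ∀ x ∈ II ^ (m + 1), L x = 0)
    (hq : ∀ q : ι → ℕ, k ≤ ∑ i, q i → ∑ i, q i ≤ m → L (zmon A z q) = 0) :
    ∀ x ∈ II ^ k, L x = 0 := by
  intro x hx
  obtain ⟨a, ha, b, hb, rfl⟩ := Submodule.mem_sup.mp (pow_le_span z hz k m hk x hx)
  rw [map_add, hI b hb, add_zero]
  have : Submodule.span B (zmon A z '' {q | k ≤ ∑ i, q i ∧ ∑ i, q i ≤ m}) ≤ LinearMap.ker L :=
    Submodule.span_le.mpr (by rintro _ ⟨q, ⟨h1, h2⟩, rfl⟩; exact LinearMap.mem_ker.mpr (hq q h1 h2))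
  exact LinearMap.mem_ker.mp (this ha)

end Span

end Groth.Agent.PPH
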