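import Groth.Agent.PPH.Monomial
import Mathlib.Algebra.Order.Antidiag.Pi

/-! Monomial bases of principal parts. -/

set_option linter.unusedSectionVars false
set_option autoImplicit false

noncomputable section

namespace Groth.Agent.PPH

open PP16
open scoped TensorProduct

universe u

variable {A B : Type u} [CommRing A] [CommRing B] [Algebra A B]
variable {ι : Type} [Fintype ι] [DecidableEq ι] (z : ι → B)

local notation "II" => KaehlerDifferential.ideal A B

/-- Exponents of total degree at most `m`. -/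
def expSet (ι : Type) [Fintype ι] [DecidableEq ι] (m : ℕ) : Finset (ι → ℕ) :=
  (Fintype.piFinset fun _ : ι => Finset.range (m + 1)).filter fun q => ∑ i, q i ≤ m

theorem mem_expSet {m : ℕ} {q : ι → ℕ} : q ∈ expSet ι m ↔ ∑ i, q i ≤ m := by
  simp only [expSet, Finset.mem_filter, Fintype.mem_piFinset, Finset.mem_range, and_iff_right_iff_imp]
  intro h i
  have := Finset.single_le_sum (f := q) (fun j _ => Nat.zero_le _) (Finset.mem_univ i)
  omega

instance (m : ℕ) : Fintype {p : ι → ℕ // ∑ i, p i ≤ m} :=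
  Fintype.subtype (expSet ι m) fun _ => mem_expSet

/-- The exponent as a finitely supported function on a lifted index type. -/
def expF (q : ι → ℕ) : ULift.{u} ι →₀ ℕ := Finsupp.equivFunOnFinite.symm fun i => q i.down

theorem expF_injective : Function.Injective (expF.{u} (ι := ι)) := fun q q' h => funext fun i =>
  congrFun (congrArg (fun d : ULift.{u} ι →₀ ℕ => (d : ULift.{u} ι → ℕ)) h) ⟨i⟩

theorem prod_X_eq (q : ι → ℕ) :
    ∏ i, (MvPolynomial.X (ULift.up.{u} i) : MvPolynomial (ULift.{u} ι) B) ^ q i =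
      MvPolynomial.monomial (expF q) 1 := by
  rw [MvPolynomial.monomial_eq, map_one, one_mul, Finsupp.prod_fintype _ _ (fun _ => pow_zero _),
    ← Equiv.prod_comp (Equiv.ulift.{u} (α := ι)).symm]
  rfl

theorem card_sigma_fin (q : ι → ℕ) : Fintype.card (Σ i, Fin (q i)) = ∑ i, q i := by simp

theorem prod_sigma_pow {R : Type*} [CommMonoid R] (q : ι → ℕ) (f : ι → R) {α : Type*} [Fintype α]
    (e : α ≃ Σ i, Fin (q i)) : ∏ a, f (e a).1 = ∏ i, f i ^ q i := by
  rw [Equiv.prod_comp e fun x => f x.1, Fintype.prod_sigma]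
  simp

/-- The embedding attached to a basis. -/
def basisEmb (b : Module.Basis ι B (KaehlerDifferential A B)) :
    KaehlerDifferential A B →ₗ[B] ULift.{u} ι →₀ B :=
  (Finsupp.domLCongr (Equiv.ulift.{u} (α := ι)).symm).toLinearMap ∘ₗ b.repr.toLinearMap

theorem lin_basisEmb (b : Module.Basis ι B (KaehlerDifferential A B)) (j : ι) :
    Sym.lin (ULift.{u} ι) (basisEmb b (b j)) = MvPolynomial.X ⟨j⟩ := by
  simp only [basisEmb, LinearMap.comp_apply, LinearEquiv.coe_coe, Module.Basis.repr_self]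
  rw [show (Finsupp.domLCongr (Equiv.ulift.{u} (α := ι)).symm) (Finsupp.single j (1 : B)) =
    Finsupp.single ⟨j⟩ 1 from Finsupp.domLCongr_single ..]
  exact Sym.lin_single _

section Smooth

variable (h : IsDiffSmooth A B) (b : Module.Basis ι B (KaehlerDifferential A B))
  (hb : ∀ i, b i = KaehlerDifferential.D A B (z i))
include h hb

theorem exists_rho (k : ℕ) : ∃ ρ : B ⊗[A] B →ₗ[B] MvPolynomial (ULift.{u} ι) B,
    (∀ x ∈ II ^ (k + 1), ρ x = 0) ∧
      ∀ q : ι → ℕ, ∑ i, q i = k → ρ (zmon A z q) = MvPolynomial.monomial (expF q) 1 := by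
  obtain ⟨ρ, h1, h2⟩ := exists_symbol A B h (ULift.{u} ι) (basisEmb b) (ULift.{u} (Fin k))
  refine ⟨ρ, by simpa using h1, fun q hq => ?_⟩
  obtain ⟨e⟩ : Nonempty (ULift.{u} (Fin k) ≃ Σ i, Fin (q i)) :=
    ⟨Fintype.equivOfCardEq (by simp [hq])⟩
  have := h2 fun a => z (e a).1
  simp only [← hb, lin_basisEmb] at this
  rw [prod_sigma_pow q (fun i => del A B (z i)) e,
    prod_sigma_pow q (fun i => (MvPolynomial.X (ULift.up.{u} i) : MvPolynomial (ULift.{u} ι) B)) e,
    prod_X_eq] at this
  exact this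

theorem coeff_eq_zero (m : ℕ) (a : (ι → ℕ) → B)
    (ha : ∑ q ∈ expSet ι m, a q • zmon A z q ∈ II ^ (m + 1)) : ∀ q ∈ expSet ι m, a q = 0 := by
  suffices hk : ∀ k, ∀ q ∈ expSet ι m, ∑ i, q i = k → a q = 0 from fun q hq => hk _ q hq rfl
  intro k
  induction k using Nat.strong_induction_on with
  | _ k ih =>
    intro q hq hqk
    obtain ⟨ρ, hρ, hρz⟩ := exists_rho z h b hb k
    have hkm : k ≤ m := hqk ▸ mem_expSet.mp hq
    have h0 := hρ _ (Ideal.pow_le_pow_right (by omega : k + 1 ≤ m + 1) ha)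
    rw [map_sum] at h0
    have e : ∀ p ∈ expSet ι m, ρ (a p • zmon A z p) =
        if ∑ i, p i = k then MvPolynomial.monomial (expF p) (a p) else 0 := by
      intro p hp
      rw [map_smul]
      split_ifs with hpk
      · rw [hρz p hpk, MvPolynomial.smul_monomial, smul_eq_mul, mul_one]
      · rcases Nat.lt_or_gt_of_ne hpk with hlt | hgt
        · rw [ih _ hlt p hp rfl, zero_smul]
        · rw [hρ _ (Ideal.pow_le_pow_right (by omega : k + 1 ≤ ∑ i, p i) (zmon_mem z p)), smul_zero]
    rw [Finset.sum_congr rfl e] at h0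
    have h1 := congrArg (MvPolynomial.coeff (expF q)) h0
    rw [MvPolynomial.coeff_sum, Finset.sum_eq_single q, if_pos hqk, MvPolynomial.coeff_monomial,
      if_pos rfl, MvPolynomial.coeff_zero] at h1
    · exact h1
    · intro p _ hp
      split_ifs
      · rw [MvPolynomial.coeff_monomial, if_neg fun he => hp (expF_injective he)]
      · rfl
    · exact fun hh => absurd hq hh

theorem exists_monomialBasis (m : ℕ) :
    ∃ bm : Module.Basis {p : ι → ℕ // ∑ i, p i ≤ m} B (P m A B),
      ∀ p, bm p = Ideal.Quotient.mk _ (zmon A z p.1) := by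
  let v : {p : ι → ℕ // ∑ i, p i ≤ m} → P m A B := fun p => Ideal.Quotient.mkₐ B _ (zmon A z p.1)
  have hz : Submodule.span B (Set.range fun i => KaehlerDifferential.D A B (z i)) = ⊤ := by
    simp only [← hb]; exact b.span_eq
  have hli : LinearIndependent B v := by
    rw [Fintype.linearIndependent_iff]
    intro c hc p
    let a : (ι → ℕ) → B := fun q => if hq : ∑ i, q i ≤ m then c ⟨q, hq⟩ else 0
    have e : ∑ q ∈ expSet ι m, a q • zmon A z q = ∑ p, c p • zmon A z p.1 := by
      rw [Finset.sum_subtype (expSet ι m) (fun x => mem_expSet) fun q => a q • zmon A z q]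
      exact Finset.sum_congr rfl fun p _ => by simp only [a, dif_pos p.2]
    have hmem : ∑ q ∈ expSet ι m, a q • zmon A z q ∈ II ^ (m + 1) := by
      rw [e]
      refine Ideal.Quotient.eq_zero_iff_mem.mp ?_
      rw [← Ideal.Quotient.mkₐ_eq_mk B, map_sum]
      simpa only [map_smul] using hc
    have := coeff_eq_zero z h b hb m a hmem p.1 (mem_expSet.mpr p.2)
    simpa [a, p.2] using this
  have hsp : ⊤ ≤ Submodule.span B (Set.range v) := by
    intro y _
    obtain ⟨x, rfl⟩ := Ideal.Quotient.mk_surjective y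
    obtain ⟨a, ha, w, hw, rfl⟩ := Submodule.mem_sup.mp (mem_span_zmon z hz m x)
    rw [map_add, Ideal.Quotient.eq_zero_iff_mem.mpr hw, add_zero, ← Ideal.Quotient.mkₐ_eq_mk B]
    have h1 := Submodule.mem_map_of_mem (f := (Ideal.Quotient.mkₐ B (II ^ (m + 1))).toLinearMap) ha
    rw [Submodule.map_span, ← Set.image_comp] at h1
    refine Submodule.span_mono ?_ h1
    rintro _ ⟨q, hq, rfl⟩
    exact ⟨⟨q, hq⟩, rfl⟩
  exact ⟨Module.Basis.mk hli hsp, fun p => Module.Basis.mk_apply _ _ _⟩

theorem exists_dpOps : ∃ Dp : (ι → ℕ) → (B →ₗ[A] B),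
    (∀ p, Diff16.IsDiffOpLE A B B B (∑ i, p i) (Dp p)) ∧
      ∀ p q : ι → ℕ, Dp p (∏ i, z i ^ q i) =
        ((∏ i, Nat.choose (q i) (p i) : ℕ) : B) * ∏ i, z i ^ (q i - p i) := by
  classical
  choose bm hbm using exists_monomialBasis z h b hb
  let L : (p : ι → ℕ) → (B ⊗[A] B →ₗ[B] B) := fun p =>
    (bm (∑ i, p i)).coord ⟨p, le_rfl⟩ ∘ₗ (Ideal.Quotient.mkₐ B (II ^ ((∑ i, p i) + 1))).toLinearMap
  have hL0 : ∀ p, ∀ x ∈ II ^ ((∑ i, p i) + 1), L p x = 0 := fun p x hx => by
    simp only [L, LinearMap.comp_apply, AlgHom.toLinearMap_apply, Ideal.Quotient.mkₐ_eq_mk,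
      Ideal.Quotient.eq_zero_iff_mem.mpr hx, map_zero]
  have hLz : ∀ p q, L p (zmon A z q) = if p = q then 1 else 0 := by
    intro p q
    by_cases hq : ∑ i, q i ≤ ∑ i, p i
    · simp only [L, LinearMap.comp_apply, AlgHom.toLinearMap_apply, Ideal.Quotient.mkₐ_eq_mk]
      rw [← hbm _ ⟨q, hq⟩, Module.Basis.coord_apply, Module.Basis.repr_self, Finsupp.single_apply]
      simp [eq_comm]
    · rw [hL0 p _ (Ideal.pow_le_pow_right (by omega) (zmon_mem z q)), if_neg]
      rintro rfl; exact hq le_rfl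
  let Dp : (ι → ℕ) → (B →ₗ[A] B) := fun p =>
    (L p).restrictScalars A ∘ₗ (Algebra.TensorProduct.includeRight (R := A) (A := B) (B := B)).toLinearMap
  refine ⟨Dp, fun p => ?_, fun p q => ?_⟩
  · refine (isDiffOpLE_iff _ _).mpr fun x hx => ?_
    have e : linB (Dp p) = L p := TensorProduct.AlgebraTensorModule.ext fun c d => by
      rw [linB_tmul]
      show c * L p ((1 : B) ⊗ₜ[A] d) = _
      rw [← smul_eq_mul, ← map_smul, TensorProduct.smul_tmul', smul_eq_mul, mul_one]
    rw [e]; exact hL0 p x hx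
  · show L p ((1 : B) ⊗ₜ[A] ∏ i, z i ^ q i) = _
    rw [one_tmul_monomial, map_sum]
    simp only [map_smul, hLz, smul_eq_mul, mul_ite, mul_one, mul_zero]
    rw [Finset.sum_ite_eq]
    split_ifs with hp
    · rw [Finset.prod_mul_distrib, Nat.cast_prod]
    · simp only [Fintype.mem_piFinset, Finset.mem_range, not_forall, not_lt] at hp
      obtain ⟨i, hi⟩ := hp
      rw [Finset.prod_eq_zero (s := Finset.univ) (f := fun j => (q j).choose (p j)) (Finset.mem_univ i)
        (Nat.choose_eq_zero_of_lt (by omega)), Nat.cast_zero, zero_mul]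

end Smooth

section Ops

variable (hz : Submodule.span B (Set.range fun i => KaehlerDifferential.D A B (z i)) = ⊤)
  (Dp : (ι → ℕ) → (B →ₗ[A] B)) (hD : ∀ p, ∃ k : ℕ, Diff16.IsDiffOpLE A B B B k (Dp p))
  (hDz : ∀ p q : ι → ℕ, Dp p (∏ i, z i ^ q i) =
    ((∏ i, Nat.choose (q i) (p i) : ℕ) : B) * ∏ i, z i ^ (q i - p i))
include hz hD hDz

theorem linB_pow_eq_zero (p : ι → ℕ) : ∀ x ∈ II ^ ((∑ i, p i) + 1), linB (Dp p) x = 0 := by
  obtain ⟨k, hk⟩ := hD p
  rcases Nat.lt_or_ge (∑ i, p i) k with h | h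
  · refine linB_eq_zero z hz (linB (Dp p)) ((∑ i, p i) + 1) k (by omega)
      ((isDiffOpLE_iff _ _).mp hk) fun q h1 _ => ?_
    rw [linB_zmon z Dp hDz, if_neg]
    rintro rfl; omega
  · exact fun x hx => (isDiffOpLE_iff _ _).mp hk x (Ideal.pow_le_pow_right (by omega) hx)

theorem basis_of_dpOps : ∃ b : Module.Basis ι B (KaehlerDifferential A B),
    ∀ i, b i = KaehlerDifferential.D A B (z i) := by
  have hli : LinearIndependent B fun i => KaehlerDifferential.D A B (z i) := by
    rw [Fintype.linearIndependent_iff]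
    intro c hc j
    let x : II := ∑ i, algebraMap B (B ⊗[A] B) (c i) • (⟨del A B (z i), del_mem A B _⟩ : II)
    let dx : KaehlerDifferential A B := Ideal.toCotangent II x
    have h0 : dx = 0 := by
      rw [← hc]
      show Ideal.toCotangent II x = _
      rw [map_sum]
      refine Finset.sum_congr rfl fun i _ => ?_
      rw [map_smul, ← D_eq]
      exact algebraMap_smul (B ⊗[A] B) (c i) _
    have hx2 : (x : B ⊗[A] B) ∈ II ^ 2 := (Ideal.toCotangent_eq_zero _ _).mp h0
    have h1 : linB (Dp (Pi.single j 1)) (x : B ⊗[A] B) = 0 :=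
      linB_pow_eq_zero z hz Dp hD hDz _ _ (by simpa using hx2)
    have e : (x : B ⊗[A] B) = ∑ i, c i • zmon A z (Pi.single i 1) := by
      simp [x, zmon, Pi.single_apply, pow_ite, Algebra.smul_def]
    rw [e, map_sum] at h1
    simp only [map_smul, linB_zmon z Dp hDz, smul_eq_mul, mul_ite, mul_one, mul_zero] at h1
    rwa [Finset.sum_eq_single j, if_pos rfl] at h1
    · intro i _ hi
      rw [if_neg fun he => hi ?_]
      have := congrFun he i
      by_contra hne
      simp [hne] at this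
    · simp
  exact ⟨Module.Basis.mk hli hz.ge, fun i => Module.Basis.mk_apply _ _ _⟩

theorem isDiffSmooth_of_dpOps : IsDiffSmooth A B := by
  classical
  obtain ⟨b, hb⟩ := basis_of_dpOps z hz Dp hD hDz
  refine (isDiffSmooth_iff A B).mpr ⟨Module.Projective.of_basis b, fun α _ => ?_⟩
  let k := Fintype.card α
  let S := (expSet ι k).filter fun q => ∑ i, q i = k
  let ρ : B ⊗[A] B →ₗ[B] MvPolynomial (ULift.{u} ι) B :=
    ∑ q ∈ S, (linB (Dp q)).smulRight (MvPolynomial.monomial (expF q) 1)
  have hρ : ∀ x ∈ II ^ (k + 1), ρ x = 0 := fun x hx => by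
    simp only [ρ, LinearMap.sum_apply, LinearMap.smulRight_apply]
    refine Finset.sum_eq_zero fun q hq => ?_
    rw [linB_pow_eq_zero z hz Dp hD hDz q x (by rwa [(Finset.mem_filter.mp hq).2]), zero_smul]
  obtain ⟨σ, hσ⟩ := exists_grI_map k ρ hρ
  have hr : b.repr.symm.toLinearMap ∘ₗ
      (Finsupp.domLCongr (Equiv.ulift.{u} (α := ι))).toLinearMap ∘ₗ basisEmb b = LinearMap.id := by
    refine b.ext fun j => ?_
    simp [basisEmb]
  refine phi_injective_of (basisEmb b) (b.repr.symm.toLinearMap ∘ₗ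
    (Finsupp.domLCongr (Equiv.ulift.{u} (α := ι))).toLinearMap)
    (by rw [LinearMap.comp_assoc]; exact hr) σ LinearMap.id (fun _ _ h => h) fun c => ?_
  have key : (σ ∘ₗ phi A B α).compMultilinearMap (SymmetricPower.tprod B) =
      (Sym.toPoly (Sym.lin (ULift.{u} ι) ∘ₗ basisEmb b)).compMultilinearMap (SymmetricPower.tprod B) := by
    refine multilinear_ext_span hz fun v hv => ?_
    choose t ht using hv
    rw [show v = fun a => KaehlerDifferential.D A B (z (t a)) from funext fun a => (ht a).symm]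
    simp only [LinearMap.compMultilinearMap_apply, LinearMap.comp_apply, Sym.toPoly_tprod]
    rw [phi_tprod_D A B α fun a => z (t a)]
    rw [show σ (zetaProd A B fun a => z (t a)) = ρ (∏ a, del A B (z (t a))) from hσ _ _]
    simp only [← hb, lin_basisEmb]
    set q : ι → ℕ := fun i => (Finset.univ.filter fun a => t a = i).card
    have hq : ∑ i, q i = k :=
      (Finset.card_eq_sum_card_fiberwise fun a _ => Finset.mem_univ (t a)).symm
    have hX : (∏ a, (MvPolynomial.X (ULift.up.{u} (t a)) : MvPolynomial (ULift.{u} ι) B)) =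
        MvPolynomial.monomial (expF q) 1 := by
      rw [← prod_X_eq, ← Finset.prod_fiberwise_of_maps_to (g := t) fun a _ => Finset.mem_univ (t a)]
      refine Finset.prod_congr rfl fun i _ => ?_
      rw [Finset.prod_congr rfl fun a ha => by rw [(Finset.mem_filter.mp ha).2], Finset.prod_const]
    rw [prod_del_eq_zmon z t, hX]
    simp only [ρ, LinearMap.sum_apply, LinearMap.smulRight_apply, linB_zmon z Dp hDz, ite_smul,
      one_smul, zero_smul]
    rw [Finset.sum_ite_eq', if_pos]
    exact Finset.mem_filter.mpr ⟨mem_expSet.mpr hq.le, hq⟩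
  have := congrArg (fun f : MultilinearMap B (fun _ : α => KaehlerDifferential A B) _ =>
    f fun a => KaehlerDifferential.D A B (c a)) key
  simp only [LinearMap.compMultilinearMap_apply, LinearMap.comp_apply, Sym.toPoly_tprod] at this
  rw [phi_tprod_D A B α c] at this
  exact this

theorem existsUnique_expansion (m : ℕ) (D : B →ₗ[A] B) (hDm : Diff16.IsDiffOpLE A B B B m D) :
    ∃! a : {p : ι → ℕ // ∑ i, p i ≤ m} →₀ B, D = a.sum fun p c => c • Dp p.1 := by
  classical
  have hlin : ∀ (a : {p : ι → ℕ // ∑ i, p i ≤ m} →₀ B),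
      linB (a.sum fun p c => c • Dp p.1) = ∑ p, a p • linB (Dp p.1) := fun a => by
    refine TensorProduct.AlgebraTensorModule.ext fun c d => ?_
    rw [linB_tmul, Finsupp.sum_fintype a (fun p c => c • Dp p.1) fun p => zero_smul _ _]
    simp [linB_tmul, Finset.mul_sum, mul_left_comm]
  have hev : ∀ (a : {p : ι → ℕ // ∑ i, p i ≤ m} →₀ B) (q : {p : ι → ℕ // ∑ i, p i ≤ m}),
      (∑ p, a p • linB (Dp p.1)) (zmon A z q.1) = a q := fun a q => by
    simp only [LinearMap.sum_apply, LinearMap.smul_apply, linB_zmon z Dp hDz, smul_eq_mul, mul_ite,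
      mul_one, mul_zero]
    rw [Finset.sum_eq_single q (fun p _ hp => if_neg fun h => hp (Subtype.ext h)) (by simp), if_pos rfl]
  refine ⟨Finsupp.equivFunOnFinite.symm fun p => linB D (zmon A z p.1), ?_, fun a ha => ?_⟩
  · set a := Finsupp.equivFunOnFinite.symm fun p : {p : ι → ℕ // ∑ i, p i ≤ m} => linB D (zmon A z p.1)
    have h : linB D = ∑ p, a p • linB (Dp p.1) := by
      refine sub_eq_zero.mp (LinearMap.ext fun x => ?_)
      refine linB_eq_zero z hz _ 0 m (Nat.zero_le _) (fun y hy => ?_) (fun q _ hq => ?_) x (by simp)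
      · rw [LinearMap.sub_apply, (isDiffOpLE_iff _ _).mp hDm y hy, zero_sub, neg_eq_zero,
          LinearMap.sum_apply]
        refine Finset.sum_eq_zero fun p _ => ?_
        rw [LinearMap.smul_apply, linB_pow_eq_zero z hz Dp hD hDz p.1 y
          (Ideal.pow_le_pow_right (by have := p.2; omega) hy), smul_zero]
      · rw [LinearMap.sub_apply, hev a ⟨q, hq⟩, sub_eq_zero]
        rfl
    refine LinearMap.ext fun d => ?_
    have h1 := LinearMap.congr_fun h ((1 : B) ⊗ₜ[A] d)
    rw [← hlin, linB_tmul, linB_tmul, one_mul, one_mul] at h1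
    exact h1
  · refine Finsupp.ext fun q => ?_
    rw [Finsupp.equivFunOnFinite_symm_apply_apply, ← hev a q, ← hlin, ← ha]

end Ops

end Groth.Agent.PPH
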