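import Groth.Agent.PPH.Basic

/-! Extension of maps along a base change. -/

set_option linter.unusedSectionVars false
set_option autoImplicit false

noncomputable section

namespace Groth.Agent.PPH

open scoped TensorProduct

universe u

variable {A B A' B' T : Type u} [CommRing A] [CommRing B] [Algebra A B]
  [CommRing A'] [CommRing B'] [Algebra A' B'] [Algebra A A'] [Algebra B B'] [Algebra A B']
  [IsScalarTower A A' B'] [IsScalarTower A B B'] [Algebra.IsPushout A B A' B']
  [CommRing T] [Algebra A T] [Algebra A' T] [Algebra B T] [Algebra B' T]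
  [IsScalarTower A A' T] [IsScalarTower A' B' T] [IsScalarTower B B' T] [IsScalarTower A B T]
  [IsScalarTower A B' T]

theorem exists_extend_pushout (φ : B →ₐ[A] T) (J : Ideal T)
    (hφ : ∀ b, φ b - algebraMap B T b ∈ J) :
    ∃ f : B' →ₐ[A'] T, (∀ b, f (algebraMap B B' b) = φ b) ∧ ∀ b', f b' - algebraMap B' T b' ∈ J := by
  haveI : Algebra.IsPushout A A' B B' := Algebra.IsPushout.symm inferInstance
  let f₀ := Algebra.pushoutDesc B' (IsScalarTower.toAlgHom A A' T) φ fun a b => mul_comm _ _
  let f : B' →ₐ[A'] T :=
    { toRingHom := f₀.toRingHom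
      commutes' := fun a => Algebra.pushoutDesc_left (S' := B') (IsScalarTower.toAlgHom A A' T) φ
        (fun a b => mul_comm _ _) a }
  have hf : ∀ b, f (algebraMap B B' b) = φ b := fun b => Algebra.pushoutDesc_right (S' := B') (IsScalarTower.toAlgHom A A' T) φ (fun a b => mul_comm _ _) b
  refine ⟨f, hf, fun b' => Ideal.Quotient.eq.mp ?_⟩
  have key : ((Ideal.Quotient.mkₐ A J).comp (f.restrictScalars A)) =
      (Ideal.Quotient.mkₐ A J).comp (IsScalarTower.toAlgHom A B' T) := by
    refine Algebra.IsPushout.algHom_ext (S := A') (R' := B) B' ?_ ?_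
    · ext b
      simp only [AlgHom.comp_apply, IsScalarTower.coe_toAlgHom', AlgHom.coe_restrictScalars', hf,
        ← IsScalarTower.algebraMap_apply B B' T]
      exact Ideal.Quotient.eq.mpr (hφ b)
    · ext a
      simp only [AlgHom.comp_apply, IsScalarTower.coe_toAlgHom', AlgHom.coe_restrictScalars',
        AlgHom.commutes, ← IsScalarTower.algebraMap_apply A' B' T]
  exact AlgHom.congr_fun key b'

end Groth.Agent.PPH
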