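import Groth.Agent.PPH.QRLocal

/-! Descent of quasi-regular ideals along faithfully flat maps. -/

set_option linter.unusedSectionVars false
set_option autoImplicit false

noncomputable section

namespace Groth.Agent.PPH.QR

universe u

open MvPolynomial

variable {A : Type u} [CommRing A]

theorem fg_of_isLocallyQuasiRegular {J : Ideal A} (h : PP16.IsLocallyQuasiRegular A J) : J.FG := by
  refine Ideal.fg_of_localizationSpan {g : A | (J.map (algebraMap A (Localization.Away g))).FG} ?_
    fun g => g.2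
  by_contra hne
  obtain ⟨P, hP, hle⟩ := Ideal.exists_le_maximal _ hne
  by_cases hJ : J ≤ P
  · obtain ⟨g, hg, r, f, -, hf⟩ := @h P hP.isPrime hJ
    refine hg (hle (Ideal.subset_span ?_))
    change (J.map (algebraMap A (Localization.Away g))).FG
    rw [← hf]
    exact Submodule.fg_span (Set.finite_range f)
  · obtain ⟨g, hg, hgP⟩ := SetLike.not_le_iff_exists.mp hJ
    have htop : J.map (algebraMap A (Localization.Away g)) = ⊤ :=
      Ideal.eq_top_of_isUnit_mem _ (Ideal.mem_map_of_mem _ hg)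
        (IsLocalization.map_units _ (⟨g, Submonoid.mem_powers g⟩ : Submonoid.powers g))
    refine hgP (hle (Ideal.subset_span ?_))
    change (J.map (algebraMap A (Localization.Away g))).FG
    rw [htop]
    exact Module.Finite.fg_top

variable (I : Ideal A) {N : ℕ} (y : Fin N → A)

/-- The relations of `y` modulo `I ^ 2`. -/
def rel2 : Submodule A (Fin N → A) := Submodule.comap (Fintype.linearCombination A y) (I ^ 2)

theorem mem_rel2 {a : Fin N → A} : a ∈ rel2 I y ↔ ∑ i, a i * y i ∈ I ^ 2 := by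
  simp [rel2, Submodule.mem_comap, Fintype.linearCombination_apply]

variable {B : Type u} [CommRing B] [Algebra A B]

local notation "φ" => algebraMap A B

theorem fg_rel2_of_wgb {J : Ideal B} (hfg : J.FG) {z : Fin N → B} (hz : Ideal.span (Set.range z) = J)
    (h : PP16.IsLocallyQuasiRegular B J) : (rel2 J z).FG := by
  classical
  have hzm : ∀ i, z i ∈ J := fun i => hz ▸ Ideal.subset_span ⟨i, rfl⟩
  let f : (Fin N → B ⧸ J) →ₗ[B ⧸ J] J.Cotangent :=
    Fintype.linearCombination (B ⧸ J) fun i => J.toCotangent ⟨z i, hzm i⟩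
  have hq : ∀ (c : B) (w : J.Cotangent), Ideal.Quotient.mk J c • w = c • w := fun _ _ => rfl
  have hf : ∀ b : Fin N → B, f (fun i => Ideal.Quotient.mk J (b i)) =
      J.toCotangent (∑ i, b i • (⟨z i, hzm i⟩ : J)) := fun b => by
    simp only [f, Fintype.linearCombination_apply, hq, map_sum, map_smul]
  have hsurj : Function.Surjective f := fun w => by
    obtain ⟨⟨v, hv⟩, rfl⟩ := J.toCotangent_surjective w
    obtain ⟨b, rfl⟩ := Ideal.mem_span_range_iff_exists_fun.mp (hz.ge hv)
    refine ⟨fun i => Ideal.Quotient.mk J (b i), (hf b).trans (congrArg _ (Subtype.ext ?_))⟩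
    simp
  have hker : ∀ b : Fin N → B, f (fun i => Ideal.Quotient.mk J (b i)) = 0 ↔ b ∈ rel2 J z := fun b => by
    rw [hf, Ideal.toCotangent_eq_zero, mem_rel2]
    simp
  obtain ⟨S, hS⟩ := LB.fg_ker_of_wgb f hsurj fun p hp => by
    obtain ⟨g, hg, r, x, hx, hsp, hqr⟩ := exists_num h (p.comap (Ideal.Quotient.mk J))
      (fun b hb => by rw [Ideal.mem_comap, Ideal.Quotient.eq_zero_iff_mem.mpr hb]; exact zero_mem p)
    exact ⟨Ideal.Quotient.mk J g, hg, r, _, wgb_of_num (Ideal.Quotient.mk J)
      Ideal.Quotient.mk_surjective (fun a => Ideal.Quotient.eq_zero_iff_mem) J.toCotangent.toAddMonoidHom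
      J.toCotangent_surjective (fun c w => (J.toCotangent.map_smul c w).trans (hq c _).symm)
      (fun w => Ideal.toCotangent_eq_zero _ _) hx hsp hqr⟩
  choose lft hlft using fun s : Fin N → B ⧸ J => (Ideal.Quotient.mk_surjective.comp_left
    (α := Fin N) : Function.Surjective fun b : Fin N → B => Ideal.Quotient.mk J ∘ b) s
  let gens : S ⊕ (Fin N × Fin N) → (Fin N → B) := Sum.elim (fun s => lft s.1)
    fun q => Pi.single q.1 (z q.2)
  have hmem : ∀ q, gens q ∈ rel2 J z := by
    rintro (s | ⟨i, j⟩)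
    · refine (hker _).mp ?_
      change f (fun i => Ideal.Quotient.mk J (lft s.1 i)) = 0
      rw [show (fun i => Ideal.Quotient.mk J (lft s.1 i)) = s.1 from hlft s.1]
      exact LinearMap.mem_ker.mp (hS ▸ Submodule.subset_span s.2)
    · rw [mem_rel2]
      simp only [gens, Sum.elim_inr, Pi.single_apply, ite_mul, zero_mul, Finset.sum_ite_eq',
        Finset.mem_univ, if_true, pow_two]
      exact Ideal.mul_mem_mul (hzm j) (hzm i)
  refine ⟨Finset.univ.image gens, le_antisymm (Submodule.span_le.mpr ?_) fun b hb => ?_⟩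
  · intro v hv
    obtain ⟨q, -, rfl⟩ := Finset.mem_image.mp hv
    exact hmem q
  · rw [Finset.coe_image, Finset.coe_univ, Set.image_univ]
    have h0 : (fun i => Ideal.Quotient.mk J (b i)) ∈ Submodule.span (B ⧸ J) (S : Set (Fin N → B ⧸ J)) := by
      rw [hS]; exact (hker b).mpr hb
    obtain ⟨c, hc, hcs⟩ := Submodule.mem_span_finset.mp h0
    choose c' hc' using fun s => Ideal.Quotient.mk_surjective (c s)
    let b' : Fin N → B := ∑ s ∈ S, c' s • lft s
    have hb' : b' ∈ Submodule.span B (Set.range gens) := Submodule.sum_mem _ fun s hs =>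
      Submodule.smul_mem _ _ (Submodule.subset_span ⟨Sum.inl ⟨s, hs⟩, rfl⟩)
    have hd : ∀ i, b i - b' i ∈ J := fun i => by
      rw [← Ideal.Quotient.eq_zero_iff_mem, map_sub, sub_eq_zero]
      have := congrFun hcs i
      simp only [Finset.sum_apply, Pi.smul_apply, smul_eq_mul] at this
      rw [← this]
      simp only [b', Finset.sum_apply, Pi.smul_apply, smul_eq_mul, map_sum, map_mul, hc']
      exact Finset.sum_congr rfl fun s _ => by
        rw [show Ideal.Quotient.mk J (lft s i) = s i from congrFun (hlft s) i]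
    choose e he using fun i => Ideal.mem_span_range_iff_exists_fun.mp (hz.ge (hd i))
    have : b = b' + ∑ i, ∑ j, e i j • Pi.single i (z j) := by
      ext l
      simp only [Pi.add_apply, Finset.sum_apply, Pi.smul_apply, Pi.single_apply, smul_eq_mul, mul_ite,
        mul_zero]
      rw [Finset.sum_comm]
      simp only [Finset.sum_ite_eq, Finset.mem_univ, if_true, he]
      ring
    rw [this]
    exact add_mem hb' (Submodule.sum_mem _ fun i _ => Submodule.sum_mem _ fun j _ =>
      Submodule.smul_mem _ _ (Submodule.subset_span ⟨Sum.inr (i, j), rfl⟩))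

theorem fg_rel2_descend [Module.FaithfullyFlat A B] {y : Fin N → A} (hy : Ideal.span (Set.range y) = I)
    (h : PP16.IsLocallyQuasiRegular B (I.map φ)) : (rel2 I y).FG := by
  classical
  let z : Fin N → B := fun i => φ (y i)
  have hz : Ideal.span (Set.range z) = I.map φ := by
    rw [← hy, Ideal.map_span, ← Set.range_comp]; rfl
  have hym : ∀ i, y i ∈ I := fun i => hy ▸ Ideal.subset_span ⟨i, rfl⟩
  obtain ⟨S, hS⟩ := fg_rel2_of_wgb (fg_of_isLocallyQuasiRegular h) hz h
  let im : (Fin N → A) → (Fin N → B) := fun a i => φ (a i)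
  have hle : rel2 (I.map φ) z ≤ Submodule.span B (im '' (rel2 I y : Set (Fin N → A))) := by
    intro b hb
    rw [mem_rel2, pow_two, ← hz, Ideal.span_mul_span'] at hb
    have hb' : ∑ i, b i * z i ∈ Ideal.span (Set.range fun q : Fin N × Fin N => z q.1 * z q.2) := by
      refine Ideal.span_mono ?_ hb
      rintro _ ⟨_, ⟨i, rfl⟩, _, ⟨j, rfl⟩, rfl⟩
      exact ⟨(i, j), rfl⟩
    obtain ⟨c, hc⟩ := Ideal.mem_span_range_iff_exists_fun.mp hb'
    let v : Fin N ⊕ Fin N × Fin N → A := Sum.elim y fun q => y q.1 * y q.2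
    let w : Fin N ⊕ Fin N × Fin N → B := Sum.elim b fun q => -c q
    obtain ⟨k, r, e, hr, he⟩ := exists_rel v w (by
      simp only [v, w, Fintype.sum_sum_type, Sum.elim_inl, Sum.elim_inr, map_mul, neg_mul,
        Finset.sum_neg_distrib]
      change ∑ i, b i * z i + -∑ q : Fin N × Fin N, c q * (z q.1 * z q.2) = 0
      rw [hc, add_neg_cancel])
    have : b = ∑ l, e l • im fun i => r l (Sum.inl i) := by
      ext i
      simpa [im, w] using he (Sum.inl i)
    rw [this]
    refine Submodule.sum_mem _ fun l _ => Submodule.smul_mem _ _ (Submodule.subset_span ⟨_, ?_, rfl⟩)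
    rw [SetLike.mem_coe, mem_rel2]
    have h0 := hr l
    simp only [v, Fintype.sum_sum_type, Sum.elim_inl, Sum.elim_inr] at h0
    rw [show ∑ i, r l (Sum.inl i) * y i = -∑ q : Fin N × Fin N, y q.1 * y q.2 * r l (Sum.inr q) by
      rw [eq_neg_iff_add_eq_zero, ← h0]; simp only [mul_comm]]
    exact neg_mem (Submodule.sum_mem _ fun q _ => Ideal.mul_mem_right _ _ (by
      rw [pow_two]; exact Ideal.mul_mem_mul (hym _) (hym _)))
  have hfin : ∀ s ∈ S, ∃ T : Finset (Fin N → A), (∀ a ∈ T, a ∈ rel2 I y) ∧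
      s ∈ Submodule.span B (im '' (T : Set (Fin N → A))) := by
    intro s hs
    obtain ⟨T', hT', hsT⟩ := Submodule.mem_span_finite_of_mem_span (hle (hS ▸ Submodule.subset_span hs))
    obtain ⟨T, hT, rfl⟩ := Finset.subset_set_image_iff.mp hT'
    exact ⟨T, hT, by rwa [Finset.coe_image] at hsT⟩
  choose T hT hsT using hfin
  let U : Finset (Fin N → A) := S.attach.biUnion fun s => T s.1 s.2
  refine ⟨U, le_antisymm (Submodule.span_le.mpr ?_) fun a ha => ?_⟩
  · intro a ha
    obtain ⟨s, -, hs⟩ := Finset.mem_biUnion.mp (Finset.mem_coe.mp ha)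
    exact hT _ _ _ hs
  · let Q := (Fin N → A) ⧸ Submodule.span A (U : Set (Fin N → A))
    let q : Fin N → B := fun i => φ (a i)
    let Φ : (Fin N → B) →ₗ[B] TensorProduct A B Q := Fintype.linearCombination B
      fun i => (1 : B) ⊗ₜ[A] Submodule.Quotient.mk (Pi.single i 1)
    have hΦ : ∀ a : Fin N → A, Φ (im a) = (1 : B) ⊗ₜ[A] Submodule.Quotient.mk a := by
      intro a
      simp only [Φ, Fintype.linearCombination_apply, im, algebraMap_smul]
      rw [← Finset.univ_sum_single a]
      simp only [← Submodule.mkQ_apply, map_sum, TensorProduct.tmul_sum]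
      refine Finset.sum_congr rfl fun i _ => ?_
      rw [← TensorProduct.tmul_smul, ← map_smul, ← Pi.single_smul', smul_eq_mul, mul_one,
        Finset.sum_apply, Finset.sum_eq_single i (fun j _ hj => Pi.single_eq_of_ne' hj _) (by simp),
        Pi.single_eq_same]
    have hmem : im a ∈ Submodule.span B (im '' (U : Set (Fin N → A))) := by
      have h1 : im a ∈ Submodule.span B (S : Set (Fin N → B)) := by
        rw [hS, mem_rel2]
        simp only [im, z, ← map_mul, ← map_sum, ← Ideal.map_pow]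
        exact Ideal.mem_map_of_mem _ ((mem_rel2 I y).mp ha)
      have hSU : Submodule.span B (S : Set (Fin N → B)) ≤
          Submodule.span B (im '' (U : Set (Fin N → A))) := Submodule.span_le.mpr fun s hs =>
        Submodule.span_mono (Set.image_mono (Finset.coe_subset.mpr (Finset.subset_biUnion_of_mem
          (fun s : S => T s.1 s.2) (Finset.mem_attach S ⟨s, hs⟩)))) (hsT s hs)
      exact hSU h1
    have hker : Submodule.span B (im '' (U : Set (Fin N → A))) ≤ LinearMap.ker Φ := by
      rw [Submodule.span_le]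
      rintro _ ⟨a', ha', rfl⟩
      rw [SetLike.mem_coe, LinearMap.mem_ker, hΦ,
        (Submodule.Quotient.mk_eq_zero _).mpr (Submodule.subset_span ha'), TensorProduct.tmul_zero]
    have h0 := LinearMap.mem_ker.mp (hker hmem)
    rw [hΦ] at h0
    exact (Submodule.Quotient.mk_eq_zero _).mp (Module.FaithfullyFlat.tensorProduct_mk_injective
      (A := A) (B := B) Q (h0.trans (TensorProduct.tmul_zero Q 1).symm))

theorem residue_mul_eq_one {L : Type u} [CommRing L] [IsLocalRing L] {p q : ℕ} (u : Fin p → L)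
    (w : Fin q → L) (U : Fin p → Fin q → L) (W : Fin q → Fin p → L)
    (hU : ∀ i, ∑ j, U i j * w j = u i) (hW : ∀ j, ∑ i, W j i * u i = w j)
    (hu : ∀ c : Fin p → L, ∑ i, c i * u i = 0 → ∀ i, c i ∈ IsLocalRing.maximalIdeal L) :
    (Matrix.of fun i j => IsLocalRing.residue L (U i j)) *
      (Matrix.of fun j i => IsLocalRing.residue L (W j i)) = 1 := by
  classical
  ext i l
  let c : Fin p → L := fun l => ∑ j, U i j * W j l - (if i = l then 1 else 0)
  have hc : ∑ l, c l * u l = 0 := by
    have h1 : ∑ l, (∑ j, U i j * W j l) * u l = u i := by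
      rw [Finset.sum_congr rfl fun l _ => Finset.sum_mul _ _ (u l), Finset.sum_comm, ← hU i]
      refine Finset.sum_congr rfl fun j _ => ?_
      rw [← hW j, Finset.mul_sum]
      exact Finset.sum_congr rfl fun l _ => mul_assoc _ _ _
    simp only [c, sub_mul, Finset.sum_sub_distrib, h1, ite_mul, one_mul, zero_mul, Finset.sum_ite_eq,
      Finset.mem_univ, if_true, sub_self]
  have := (IsLocalRing.residue_eq_zero_iff _).mpr (hu c hc l)
  simp only [c, map_sub, sub_eq_zero, map_sum, map_mul] at this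
  simp only [Matrix.mul_apply, Matrix.of_apply, Matrix.one_apply]
  rw [this]
  split_ifs <;> simp

variable {I}

theorem qrs_at_prime [Module.FaithfullyFlat A B] (h : PP16.IsLocallyQuasiRegular B (I.map φ))
    (P : Ideal A) [P.IsPrime] (hP : I ≤ P) {m : ℕ} {x : Fin m → A} (hx : ∀ i, x i ∈ I) {g₀ : A}
    (hg₀ : g₀ ∉ P) (hgen : ∀ z ∈ I, g₀ * z ∈ Ideal.span (Set.range x))
    (hmin : ∀ c : Fin m → A, ∑ i, c i * x i = 0 → ∀ i, c i ∈ P) :
    QRS P.primeCompl x := by
  classical
  obtain ⟨⟨Q, hQ⟩, hQP⟩ := PrimeSpectrum.comap_surjective_of_faithfullyFlat (A := A) (B := B) ⟨P, ‹_›⟩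
  have hPQ : Q.comap φ = P := congrArg PrimeSpectrum.asIdeal hQP
  obtain ⟨g, hg, r, x', hx', hsp', hq'⟩ := exists_num h Q (Ideal.map_le_iff_le_comap.mpr (hPQ ▸ hP))
  let L := Localization.AtPrime Q
  let xl : Fin m → L := fun i => algebraMap B L (φ (x i))
  let xl' : Fin r → L := fun i => algebraMap B L (x' i)
  have hqL : CAlgX.IsQuasiRegular xl' := isQuasiRegular_of_qrs Q.primeCompl L
    (qrs_mono ((Submonoid.powers_le).mpr hg) hq')
  have hg₀Q : φ g₀ ∉ Q := fun hc => hg₀ (hPQ ▸ (Ideal.mem_comap.mpr hc))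
  have hmapx : ∀ b ∈ I.map φ, algebraMap B L b ∈ Ideal.span (Set.range xl) := by
    intro b hb
    have hb' : φ g₀ * b ∈ Ideal.span (Set.range fun i => φ (x i)) := by
      have : Ideal.span {φ g₀} * I.map φ ≤ Ideal.span (Set.range fun i => φ (x i)) := by
        rw [show Ideal.span {φ g₀} = (Ideal.span {g₀}).map φ by rw [Ideal.map_span, Set.image_singleton],
          ← Ideal.map_mul,
          show Ideal.span (Set.range fun i => φ (x i)) = (Ideal.span (Set.range x)).map φ by
            rw [Ideal.map_span, ← Set.range_comp]; rfl]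
        refine Ideal.map_mono ?_
        rw [Ideal.span_singleton_mul_le_iff]
        exact hgen
      exact this (Ideal.mul_mem_mul (Ideal.mem_span_singleton_self _) hb)
    have := Ideal.mem_map_of_mem (algebraMap B L) hb'
    rw [← span_map L, map_mul] at this
    exact (Ideal.unit_mul_mem_iff_mem _ (IsLocalization.map_units L (⟨φ g₀, hg₀Q⟩ : Q.primeCompl))).mp this
  have hmapx' : ∀ b ∈ I.map φ, algebraMap B L b ∈ Ideal.span (Set.range xl') := by
    intro b hb
    obtain ⟨M, hM⟩ := hsp' b hb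
    have := Ideal.mem_map_of_mem (algebraMap B L) hM
    rw [← span_map L, map_mul] at this
    exact (Ideal.unit_mul_mem_iff_mem _
      (IsLocalization.map_units L (⟨g ^ M, Q.primeCompl.pow_mem hg M⟩ : Q.primeCompl))).mp this
  have hspan : Ideal.span (Set.range xl') = Ideal.span (Set.range xl) :=
    le_antisymm (Ideal.span_le.mpr (Set.range_subset_iff.mpr fun i => hmapx _ (hx' i)))
      (Ideal.span_le.mpr (Set.range_subset_iff.mpr fun i => hmapx' _ (Ideal.mem_map_of_mem _ (hx i))))
  -- relations of `xl` and of `xl'` lie in the maximal ideal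
  have hrel : ∀ c : Fin m → L, ∑ i, c i * xl i = 0 → ∀ i, c i ∈ IsLocalRing.maximalIdeal L := by
    intro c hc i
    obtain ⟨b, hb⟩ := IsLocalization.exist_integer_multiples_of_finite Q.primeCompl c
    choose d hd using hb
    have h0 : algebraMap B L (∑ j, d j * φ (x j)) = 0 := by
      simp only [map_sum, map_mul, hd, Algebra.smul_def, mul_assoc, ← Finset.mul_sum]
      rw [hc, mul_zero]
    obtain ⟨t, ht⟩ := (IsLocalization.map_eq_zero_iff Q.primeCompl L _).mp h0
    obtain ⟨k, y, e, hy, he⟩ := exists_rel (B := B) x (fun j => (t : B) * d j) (by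
      rw [← ht, Finset.mul_sum]; exact Finset.sum_congr rfl fun j _ => mul_assoc _ _ _)
    have htd : (t : B) * d i ∈ Q := by
      rw [he i]
      refine Q.sum_mem fun l _ => Q.mul_mem_left _ ?_
      have := hmin (y l) (by rw [← hy l]; exact Finset.sum_congr rfl fun j _ => mul_comm _ _) i
      rwa [← hPQ] at this
    have hdi : d i ∈ Q := (Ideal.IsPrime.mem_or_mem ‹Q.IsPrime› htd).resolve_left t.2
    have h1 : algebraMap B L (d i) ∈ IsLocalRing.maximalIdeal L :=
      (IsLocalization.AtPrime.to_map_mem_maximal_iff L Q _).mpr hdi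
    rw [hd i, Algebra.smul_def] at h1
    exact (Ideal.unit_mul_mem_iff_mem _ (IsLocalization.map_units L b)).mp h1
  have hrel' : ∀ c : Fin r → L, ∑ i, c i * xl' i = 0 → ∀ i, c i ∈ IsLocalRing.maximalIdeal L := by
    intro c hc i
    have hP1 : (∑ j, C (c j) * X j : MvPolynomial (Fin r) L).IsHomogeneous 1 :=
      IsHomogeneous.sum _ _ _ fun j _ => (isHomogeneous_X L j).C_mul _
    have h1 := hqL 1 _ hP1 (by simp [map_sum, hc]) (Finsupp.single i 1)
    simp only [coeff_sum, coeff_C_mul, coeff_X, Finsupp.single_left_inj one_ne_zero, mul_ite, mul_one,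
      mul_zero, Finset.sum_ite_eq', Finset.mem_univ, if_true] at h1
    refine Ideal.span_le.mpr ?_ h1
    rintro _ ⟨j, rfl⟩
    exact (IsLocalization.AtPrime.to_map_mem_maximal_iff L Q _).mpr
      (Ideal.map_le_iff_le_comap.mpr (hPQ ▸ hP) (hx' j))
  choose M hM using fun i => Ideal.mem_span_range_iff_exists_fun.mp
    (hspan.le (Ideal.subset_span ⟨i, rfl⟩) : xl' i ∈ Ideal.span (Set.range xl))
  choose M' hM' using fun i => Ideal.mem_span_range_iff_exists_fun.mp
    (hspan.ge (Ideal.subset_span ⟨i, rfl⟩) : xl i ∈ Ideal.span (Set.range xl'))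
  let k := IsLocalRing.ResidueField L
  let red := IsLocalRing.residue L
  have e1 := residue_mul_eq_one xl xl' M' M hM' hM hrel
  have e2 := residue_mul_eq_one xl' xl M M' hM hM' hrel'
  have hmr : r = m := by
    let E : (Fin r → k) ≃ₗ[k] (Fin m → k) := LinearEquiv.ofLinear
      (Matrix.toLin' (Matrix.of fun i j => red (M' i j))) (Matrix.toLin' (Matrix.of fun i j => red (M i j)))
      (by rw [← Matrix.toLin'_mul, e1, Matrix.toLin'_one]) (by rw [← Matrix.toLin'_mul, e2, Matrix.toLin'_one])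
    simpa using E.finrank_eq
  subst hmr
  have hx0 := RR50.isQuasiRegular_of_span_eq xl' xl hqL hspan
  intro n F hF he d
  obtain ⟨s, hs, hs'⟩ := qrs_descend Q (qrs_of_isQuasiRegular Q.primeCompl L hx0) n F hF he d
  exact ⟨s, fun hc => hs (hPQ ▸ (hc : s ∈ P) : s ∈ Q.comap φ), hs'⟩

theorem exists_minimal {y : Fin N → A} (hy : Ideal.span (Set.range y) = I) (P : Ideal A) [P.IsPrime] :
    ∃ (m : ℕ) (e : Fin m → Fin N) (g₀ : A), g₀ ∉ P ∧
      (∀ z ∈ I, g₀ * z ∈ Ideal.span (Set.range (y ∘ e))) ∧ Function.Injective e ∧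
      ∀ c : Fin m → A, ∑ i, c i * y (e i) = 0 → ∀ i, c i ∈ P := by
  classical
  let ok : Finset (Fin N) → Prop := fun s =>
    ∃ g : A, g ∉ P ∧ ∀ z ∈ I, g * z ∈ Ideal.span (y '' (s : Set (Fin N)))
  have hu : ok Finset.univ := ⟨1, fun h => (Ideal.IsPrime.ne_top ‹_›) ((Ideal.eq_top_iff_one _).mpr h),
    fun z hz => by rw [Finset.coe_univ, Set.image_univ, hy, one_mul]; exact hz⟩
  obtain ⟨s, hs, hmin⟩ := Finset.exists_min_image (Finset.univ.filter ok) Finset.card
    ⟨_, Finset.mem_filter.mpr ⟨Finset.mem_univ _, hu⟩⟩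
  obtain ⟨g₀, hg₀, hgen⟩ := (Finset.mem_filter.mp hs).2
  let e : Fin s.card → Fin N := fun i => (s.equivFin.symm i).1
  have hrange : Set.range (y ∘ e) = y '' (s : Set (Fin N)) := by
    rw [Set.range_comp]
    congr 1
    ext i
    exact ⟨fun ⟨j, hj⟩ => hj ▸ (s.equivFin.symm j).2, fun hi => ⟨s.equivFin ⟨i, hi⟩, by simp [e]⟩⟩
  have hinj : Function.Injective e := fun a b hab => s.equivFin.symm.injective (Subtype.ext hab)
  refine ⟨s.card, e, g₀, hg₀, hrange ▸ hgen, hinj, fun c hc i => ?_⟩
  by_contra hci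
  have hok : ok (s.erase (e i)) := by
    refine ⟨c i * g₀, P.primeCompl.mul_mem hci hg₀, fun z hz => ?_⟩
    obtain ⟨d, hd⟩ := Ideal.mem_span_range_iff_exists_fun.mp (hrange ▸ hgen z hz :
      g₀ * z ∈ Ideal.span (Set.range (y ∘ e)))
    have : c i * g₀ * z = ∑ j ∈ Finset.univ.erase i, (c i * d j - d i * c j) * y (e j) := by
      rw [Finset.sum_erase _ (by ring), mul_assoc, ← hd, Finset.mul_sum]
      simp only [Function.comp_apply, sub_mul, Finset.sum_sub_distrib, mul_assoc, ← Finset.mul_sum]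
      rw [hc, mul_zero, sub_zero]
    rw [this]
    refine Submodule.sum_mem _ fun j hj => Ideal.mul_mem_left _ _ (Ideal.subset_span ⟨e j, ?_, rfl⟩)
    exact Finset.mem_coe.mpr (Finset.mem_erase.mpr
      ⟨fun he => Finset.ne_of_mem_erase hj (hinj he), (s.equivFin.symm j).2⟩)
  have h1 := hmin _ (Finset.mem_filter.mpr ⟨Finset.mem_univ _, hok⟩)
  exact absurd (Finset.card_erase_lt_of_mem (s.equivFin.symm i).2) (not_lt.mpr h1)

/-- Descent of local quasi-regularity. -/
theorem isLocallyQuasiRegular_descend [Module.FaithfullyFlat A B]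
    (h : PP16.IsLocallyQuasiRegular B (I.map φ)) : PP16.IsLocallyQuasiRegular A I := by
  classical
  have hI : I.FG := by
    obtain ⟨T', hT', hT⟩ := Submodule.fg_span_iff_fg_span_finset_subset (φ '' (I : Set A)) |>.mp
      (fg_of_isLocallyQuasiRegular h)
    obtain ⟨T, hTI, rfl⟩ := Finset.subset_set_image_iff.mp hT'
    refine ⟨T, ?_⟩
    have e : (Ideal.span (T : Set A)).map φ = I.map φ := by
      rw [Ideal.map_span, ← Finset.coe_image]; exact hT.symm
    have := congrArg (Ideal.comap φ) e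
    rwa [Ideal.comap_map_eq_self_of_faithfullyFlat, Ideal.comap_map_eq_self_of_faithfullyFlat] at this
  intro P _ hP
  obtain ⟨N, y, hy⟩ := Submodule.fg_iff_exists_fin_generating_family.mp hI
  obtain ⟨S, hS⟩ := fg_rel2_descend I hy h
  obtain ⟨m, e, g₀, hg₀, hgen, hinj, hmin⟩ := exists_minimal hy P
  set x := y ∘ e with hxdef
  have hx : ∀ i, x i ∈ I := fun i => hy ▸ Ideal.subset_span ⟨e i, rfl⟩
  have hJI : Ideal.span (Set.range x) ≤ I := Ideal.span_le.mpr (Set.range_subset_iff.mpr hx)
  have hPqrs := qrs_at_prime h P hP hx hg₀ hgen hmin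
  -- relations mod `I ^ 2` of `x` are killed near `P`
  have hK : ∀ a ∈ rel2 I x, ∀ i, ∃ t ∈ P.primeCompl, t * a i ∈ I := by
    intro a ha i
    rw [mem_rel2] at ha
    have hP1 : (∑ j, C (g₀ ^ 2 * a j) * X j : MvPolynomial (Fin m) A).IsHomogeneous 1 :=
      IsHomogeneous.sum _ _ _ fun j _ => (isHomogeneous_X A j).C_mul _
    have he : eval x (∑ j, C (g₀ ^ 2 * a j) * X j : MvPolynomial (Fin m) A) ∈
        Ideal.span (Set.range x) ^ (1 + 1) := by
      have hle : Ideal.span {g₀ ^ 2} * I ^ 2 ≤ Ideal.span (Set.range x) ^ 2 := by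
        rw [← Ideal.span_singleton_pow, ← mul_pow]
        exact Ideal.pow_right_mono ((Ideal.span_singleton_mul_le_iff).mpr hgen) 2
      have := hle (Ideal.mul_mem_mul (Ideal.mem_span_singleton_self _) ha)
      simpa [map_sum, Finset.mul_sum, mul_assoc] using this
    obtain ⟨t, ht, ht'⟩ := hPqrs 1 _ hP1 he (Finsupp.single i 1)
    simp only [coeff_sum, coeff_C_mul, coeff_X, Finsupp.single_left_inj one_ne_zero, mul_ite, mul_one,
      mul_zero, Finset.sum_ite_eq', Finset.mem_univ, if_true] at ht'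
    exact ⟨t * g₀ ^ 2, P.primeCompl.mul_mem ht (P.primeCompl.pow_mem hg₀ 2), by
      rw [mul_assoc]; exact hJI ht'⟩
  have hrows : ∀ j, ∃ c : Fin m → A, ∑ i, c i * x i = g₀ * y j := fun j =>
    Ideal.mem_span_range_iff_exists_fun.mp (hgen _ (hy ▸ Ideal.subset_span ⟨j, rfl⟩))
  choose c hc using hrows
  let π : (Fin N → A) →ₗ[A] (Fin m → A) := Fintype.linearCombination A c
  have hπ : ∀ a : Fin N → A, ∑ i, π a i * x i = g₀ * ∑ j, a j * y j := by
    intro a
    simp only [π, Fintype.linearCombination_apply, Finset.sum_apply, Pi.smul_apply, smul_eq_mul,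
      Finset.sum_mul, mul_assoc]
    rw [Finset.sum_comm, Finset.mul_sum]
    exact Finset.sum_congr rfl fun j _ => by rw [← Finset.mul_sum, hc]; ring
  let gens : S ⊕ Fin m → (Fin m → A) :=
    Sum.elim (fun s => π s.1) fun l => c (e l) - g₀ • Pi.single l 1
  have hgensK : ∀ q, gens q ∈ rel2 I x := by
    rintro (s | l)
    · rw [mem_rel2]
      change ∑ i, π s.1 i * x i ∈ _
      rw [hπ]
      exact Ideal.mul_mem_left _ _ ((mem_rel2 I y).mp (hS ▸ Submodule.subset_span s.2))
    · rw [mem_rel2]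
      have e0 : ∑ i, gens (Sum.inr l) i * x i = 0 := by
        simp only [gens, Sum.elim_inr, Pi.sub_apply, Pi.smul_apply, smul_eq_mul, sub_mul,
          Finset.sum_sub_distrib, hc, Pi.single_apply, mul_ite, mul_one, mul_zero, ite_mul, zero_mul,
          Finset.sum_ite_eq', Finset.mem_univ, if_true]
        exact sub_self _
      rw [e0]
      exact zero_mem _
  choose t ht htmem using fun q i => hK _ (hgensK q) i
  let g := g₀ * ∏ q : (S ⊕ Fin m) × Fin m, t q.1 q.2
  have hg : g ∉ P := P.primeCompl.mul_mem hg₀ (prod_mem fun q _ => ht q.1 q.2)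
  have hgkill : ∀ a : Fin m → A, ∑ i, a i * x i = 0 → ∀ i, g * a i ∈ I := by
    intro a ha i
    let a' : Fin N → A := ∑ l, a l • Pi.single (e l) 1
    have ha' : a' ∈ rel2 I y := by
      rw [mem_rel2]
      simp only [a', Finset.sum_apply, Pi.smul_apply, Pi.single_apply, smul_eq_mul, mul_ite, mul_one,
        mul_zero, Finset.sum_mul, ite_mul, zero_mul]
      rw [Finset.sum_comm]
      simp only [Finset.sum_ite_eq', Finset.mem_univ, if_true]
      rw [show ∑ l, a l * y (e l) = 0 from ha]
      exact zero_mem _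
    have hπ' : π a' = ∑ l, a l • c (e l) := by
      simp [a', π]
    have hdec : g₀ • a = π a' - ∑ l, a l • gens (Sum.inr l) := by
      simp only [hπ', gens, Sum.elim_inr, smul_sub, Finset.sum_sub_distrib, sub_sub_cancel]
      ext j
      simp [Pi.single_apply, mul_comm]
    have hmemspan : π a' ∈ Submodule.span A (Set.range gens) := by
      have h1 : a' ∈ Submodule.span A (S : Set (Fin N → A)) := hS ▸ ha'
      have h2 := Submodule.mem_map_of_mem (f := π) h1
      rw [Submodule.map_span] at h2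
      refine Submodule.span_mono ?_ h2
      rintro _ ⟨s, hs, rfl⟩
      exact ⟨Sum.inl ⟨s, hs⟩, rfl⟩
    have hsp : g₀ • a ∈ Submodule.span A (Set.range gens) := by
      rw [hdec]
      exact sub_mem hmemspan (Submodule.sum_mem _ fun l _ =>
        Submodule.smul_mem _ _ (Submodule.subset_span ⟨_, rfl⟩))
    obtain ⟨d, hd⟩ := (Submodule.mem_span_range_iff_exists_fun A).mp hsp
    rw [show g * a i = (∏ q : (S ⊕ Fin m) × Fin m, t q.1 q.2) * (g₀ • a) i by
      simp only [g, Pi.smul_apply, smul_eq_mul]; ring, ← hd]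
    simp only [Finset.sum_apply, Pi.smul_apply, smul_eq_mul, Finset.mul_sum]
    refine Submodule.sum_mem _ fun q _ => ?_
    obtain ⟨w, hw⟩ : t q i ∣ ∏ p : (S ⊕ Fin m) × Fin m, t p.1 p.2 :=
      Finset.dvd_prod_of_mem _ (Finset.mem_univ (q, i))
    rw [hw, show t q i * w * (d q * gens q i) = w * d q * (t q i * gens q i) by ring]
    exact Ideal.mul_mem_left _ _ (htmem q i)
  have hqr : QRS (Submonoid.powers g) x := by
    intro n F hF he d
    suffices hrad : g ∈ (Submodule.colon (Ideal.span (Set.range x)) {F.coeff d}).radical by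
      obtain ⟨M, hM⟩ := hrad
      exact ⟨g ^ M, ⟨M, rfl⟩, Submodule.mem_colon_singleton.mp hM⟩
    rw [Ideal.radical_eq_sInf, Submodule.mem_sInf]
    rintro P' ⟨hle, hP'⟩
    haveI : Ideal.IsPrime P' := hP'
    by_contra hgP'
    have hg₀' : g₀ ∉ P' := fun hc => hgP' (Ideal.mul_mem_right _ P' hc)
    by_cases hI' : I ≤ P'
    · have hmin' : ∀ a : Fin m → A, ∑ i, a i * x i = 0 → ∀ i, a i ∈ P' := fun a ha i =>
        ((Ideal.IsPrime.mem_or_mem hP' (hI' (hgkill a ha i))).resolve_left hgP')
      obtain ⟨s, hs, hs'⟩ := qrs_at_prime h P' hI' hx hg₀' hgen hmin' n F hF he d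
      exact hs (hle (Submodule.mem_colon_singleton.mpr hs'))
    · obtain ⟨z, hz, hzP⟩ := SetLike.not_le_iff_exists.mp hI'
      refine ((Ideal.primeCompl P').mul_mem hg₀' hzP) (hle (Submodule.mem_colon_singleton.mpr ?_))
      exact Ideal.mul_mem_right _ _ (hgen z hz)
  refine ⟨g, hg, m, fun i => algebraMap A (Localization.Away g) (x i),
    isQuasiRegular_of_qrs (Submonoid.powers g) _ hqr, ?_⟩
  rw [span_map (Localization.Away g) x]
  refine le_antisymm (Ideal.map_mono hJI) (Ideal.map_le_iff_le_comap.mpr fun z hz => ?_)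
  rw [Ideal.mem_comap, IsLocalization.algebraMap_mem_map_algebraMap_iff (Submonoid.powers g)]
  refine ⟨g, Submonoid.mem_powers g, ?_⟩
  rw [show g * z = (∏ q : (S ⊕ Fin m) × Fin m, t q.1 q.2) * (g₀ * z) by simp only [g]; ring]
  exact Ideal.mul_mem_left _ _ (hgen z hz)

end Groth.Agent.PPH.QR
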