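import Groth.Agent.PPH.Criterion
import Groth.Agent.S3806
import Mathlib.RingTheory.Kaehler.TensorProduct
import Mathlib.RingTheory.Finiteness.Descent
import Mathlib.RingTheory.Flat.EquationalCriterion
import Mathlib.RingTheory.Flat.FaithfullyFlat.Basic

/-! Differential smoothness under base change and descent. -/

set_option linter.unusedSectionVars false
set_option autoImplicit false

noncomputable section

namespace Groth.Agent.PPH

open PP16 MvPolynomial
open scoped TensorProduct

universe u

/-- Finite presentation of a module descends along faithfully flat algebras. -/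
theorem finitePresentation_descent {R S M : Type*} [CommRing R] [CommRing S] [Algebra R S]
    [Module.FaithfullyFlat R S] [AddCommGroup M] [Module R M] [Module.Finite R M]
    [Module.FinitePresentation S (S ⊗[R] M)] : Module.FinitePresentation R M := by
  obtain ⟨n, f, hf⟩ := Module.Finite.exists_fin' R M
  let g := f.baseChange S
  have hg : Function.Surjective g := by
    rw [show (g : S ⊗[R] (Fin n → R) → S ⊗[R] M) = f.lTensor S from rfl]
    exact LinearMap.lTensor_surjective S hf
  haveI : Module.Finite S (LinearMap.ker g) :=
    Module.Finite.iff_fg.mpr (Module.FinitePresentation.fg_ker g hg)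
  let j := (LinearMap.ker f).subtype.baseChange S
  have hj : Function.Injective j :=
    Module.Flat.lTensor_preserves_injective_linearMap (M := S) _ Subtype.val_injective
  have hrange : LinearMap.range j = LinearMap.ker g := by
    ext x
    exact (lTensor_exact S (LinearMap.exact_subtype_ker_map f) hf x).symm
  haveI : Module.Finite S (S ⊗[R] LinearMap.ker f) :=
    Module.Finite.equiv ((LinearEquiv.ofInjective j hj).trans (LinearEquiv.ofEq _ _ hrange)).symm
  haveI : Module.Finite R (LinearMap.ker f) :=
    Module.Finite.of_finite_tensorProduct_of_faithfullyFlat S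
  exact Module.finitePresentation_of_surjective f hf (Module.Finite.iff_fg.mp inferInstance)

variable {A B A' B' : Type u} [CommRing A] [CommRing B] [Algebra A B]
  [CommRing A'] [CommRing B'] [Algebra A' B'] [Algebra A A'] [Algebra B B'] [Algebra A B']
  [IsScalarTower A A' B'] [IsScalarTower A B B'] [Algebra.IsPushout A B A' B']

local notation "II" => KaehlerDifferential.ideal A B
local notation "II'" => KaehlerDifferential.ideal A' B'

variable (A B A' B') in
theorem isBaseChange_kaehler : IsBaseChange B' (KaehlerDifferential.map A A' B B') := by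
  haveI : Algebra.IsPushout A A' B B' := Algebra.IsPushout.symm inferInstance
  refine IsBaseChange.of_equiv (KaehlerDifferential.tensorKaehlerEquiv A A' B B') fun x => ?_
  have hx : x ∈ Submodule.span B (Set.range (KaehlerDifferential.D A B)) := by
    rw [KaehlerDifferential.span_range_derivation]; trivial
  induction hx using Submodule.span_induction with
  | mem y hy =>
    obtain ⟨b, rfl⟩ := hy
    rw [KaehlerDifferential.tensorKaehlerEquiv_tmul_D, one_smul, KaehlerDifferential.map_D]
  | zero => simp
  | add y z _ _ hy hz => rw [TensorProduct.tmul_add, map_add, map_add, hy, hz]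
  | smul r y _ hy =>
    rw [TensorProduct.tmul_smul, ← algebraMap_smul B' r ((1 : B') ⊗ₜ[B] y), map_smul, hy, map_smul,
      algebraMap_smul]

/-- Base change of a splitting of the differentials. -/
theorem exists_embedding_baseChange {κ : Type u} (i : KaehlerDifferential A B →ₗ[B] κ →₀ B)
    (r : (κ →₀ B) →ₗ[B] KaehlerDifferential A B) (hr : r ∘ₗ i = LinearMap.id) :
    ∃ (i' : KaehlerDifferential A' B' →ₗ[B'] κ →₀ B') (r' : (κ →₀ B') →ₗ[B'] KaehlerDifferential A' B'),
      r' ∘ₗ i' = LinearMap.id ∧ ∀ b : B,
        i' (KaehlerDifferential.D A' B' (algebraMap B B' b)) =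
          Finsupp.mapRange (algebraMap B B') (map_zero _) (i (KaehlerDifferential.D A B b)) := by
  have h := isBaseChange_kaehler A B A' B'
  let mr : (κ →₀ B) →ₗ[B] κ →₀ B' := Finsupp.mapRange.linearMap (Algebra.linearMap B B')
  let r' : (κ →₀ B') →ₗ[B'] KaehlerDifferential A' B' :=
    Finsupp.linearCombination B' fun j => KaehlerDifferential.map A A' B B' (r (Finsupp.single j 1))
  have hr' : ∀ v, r' (mr v) = KaehlerDifferential.map A A' B B' (r v) := by
    intro v
    induction v using Finsupp.induction_linear with
    | zero => simp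
    | add x y hx hy => simp only [map_add, hx, hy]
    | single j c =>
      simp only [r', mr, Finsupp.mapRange.linearMap_apply, Finsupp.mapRange_single,
        Algebra.linearMap_apply, Finsupp.linearCombination_single, algebraMap_smul]
      rw [← map_smul, ← map_smul, Finsupp.smul_single, smul_eq_mul, mul_one]
  refine ⟨h.lift (mr ∘ₗ i), r', h.algHom_ext _ _ fun x => ?_, fun b => ?_⟩
  · rw [LinearMap.comp_apply, h.lift_eq, LinearMap.comp_apply, hr',
      show r (i x) = x from LinearMap.congr_fun hr x]
    rfl
  · rw [← KaehlerDifferential.map_D A A' B B', h.lift_eq]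
    rfl

theorem lin_mapRange {κ : Type u} (v : κ →₀ B) :
    Sym.lin κ (Finsupp.mapRange (algebraMap B B') (map_zero _) v) =
      MvPolynomial.map (algebraMap B B') (Sym.lin κ v) := by
  induction v using Finsupp.induction_linear with
  | zero => simp
  | add x y hx hy => simp only [Finsupp.mapRange_add (map_add _), map_add, hx, hy]
  | single j c =>
    simp only [Sym.lin, Finsupp.mapRange_single, Finsupp.linearCombination_single,
      MvPolynomial.smul_eq_C_mul, map_mul, MvPolynomial.map_C, MvPolynomial.map_X]

theorem tensorMap_del (b : B) : tensorMap A B A' B' (del A B b) = del A' B' (algebraMap B B' b) := by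
  simp [del, tensorMap_tmul]

variable (A' B') in
/-- Differential smoothness is stable under base change. -/
theorem isDiffSmooth_baseChange (h : IsDiffSmooth A B) : IsDiffSmooth A' B' := by
  classical
  obtain ⟨hproj, -⟩ := (isDiffSmooth_iff A B).mp h
  obtain ⟨κ, i, r, hr⟩ := exists_embedding A B
  obtain ⟨i', r', hr', hi'⟩ := exists_embedding_baseChange (A' := A') (B' := B') i r hr
  refine (isDiffSmooth_iff A' B').mpr ⟨Module.Projective.of_split i' r' hr', fun ι _ => ?_⟩
  obtain ⟨ρ, hρ, hval⟩ := exists_symbol A B h κ i ι
  let k := Fintype.card ι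
  let ρb : P k A B →ₗ[B] MvPolynomial κ B :=
    Submodule.liftQ ((II ^ (k + 1)).restrictScalars B) ρ (fun x hx => LinearMap.mem_ker.mpr (hρ x hx)) ∘ₗ
      (Submodule.Quotient.restrictScalarsEquiv B (II ^ (k + 1))).symm.toLinearMap
  have hρb : ∀ x, ρb (Ideal.Quotient.mk _ x) = ρ x := fun x => rfl
  let mM : MvPolynomial κ B →ₗ[B] MvPolynomial κ B' :=
    (MvPolynomial.mapAlgHom (Algebra.ofId B B')).toLinearMap
  have hmM : ∀ q, mM q = MvPolynomial.map (algebraMap B B') q := fun q => rfl
  have hP : IsBaseChange B' (mapB k A B A' B').toLinearMap := by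
    letI := PP16.mapAlgebra k A B A' B'
    haveI := PP16.isScalarTower_mapAlgebra k A B A' B'
    have hpo := Algebra.IsPushout.symm (Groth.Agent.S3806.result k A B A' B')
    exact hpo.out
  let ρ' : B' ⊗[A'] B' →ₗ[B'] MvPolynomial κ B' :=
    (hP.lift (mM ∘ₗ ρb)) ∘ₗ (Ideal.Quotient.mkₐ B' (II' ^ (k + 1))).toLinearMap
  refine phi_injective_of_square i' r' hr' ρ' ?_ LinearMap.id (fun _ _ h => h) fun b => ?_
  · intro x hx
    have h0 : Ideal.Quotient.mk (II' ^ (k + 1)) x = 0 := Ideal.Quotient.eq_zero_iff_mem.mpr hx
    show hP.lift (mM ∘ₗ ρb) (Ideal.Quotient.mk (II' ^ (k + 1)) x) = 0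
    rw [h0, map_zero]
  · let dl : B' →ₗ[A'] B' ⊗[A'] B' :=
      (Algebra.TensorProduct.includeRight (R := A') (A := B') (B := B')).toLinearMap -
        (Algebra.TensorProduct.includeLeft (R := A') (S := A') (A := B') (B := B')).toLinearMap
    have hdl : ∀ c, dl c = del A' B' c := fun c => rfl
    let li : B' →ₗ[A'] MvPolynomial κ B' :=
      ((Sym.lin κ).restrictScalars A') ∘ₗ (i'.restrictScalars A') ∘ₗ
        (KaehlerDifferential.D A' B').toLinearMap
    let f₁ : MultilinearMap A' (fun _ : ι => B') (MvPolynomial κ B') :=
      (ρ'.restrictScalars A').compMultilinearMap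
        ((MultilinearMap.mkPiAlgebra A' ι (B' ⊗[A'] B')).compLinearMap fun _ => dl)
    let f₂ : MultilinearMap A' (fun _ : ι => B') (MvPolynomial κ B') :=
      (MultilinearMap.mkPiAlgebra A' ι (MvPolynomial κ B')).compLinearMap fun _ => li
    have hspan : Submodule.span A' (Set.range (algebraMap B B')) = ⊤ := by
      haveI hp : Algebra.IsPushout A A' B B' := Algebra.IsPushout.symm inferInstance
      refine eq_top_iff.mpr fun x _ => ?_
      refine hp.out.inductionOn x _ (zero_mem _) (fun m => Submodule.subset_span ⟨m, rfl⟩)
        (fun s n hn => Submodule.smul_mem _ s hn) fun _ _ h₁ h₂ => add_mem h₁ h₂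
    have key : f₁ = f₂ := by
      refine multilinear_ext_span hspan fun v hv => ?_
      choose c hc using hv
      rw [show v = fun a => algebraMap B B' (c a) from funext fun a => (hc a).symm]
      simp only [f₁, f₂, LinearMap.compMultilinearMap_apply, MultilinearMap.compLinearMap_apply,
        MultilinearMap.mkPiAlgebra_apply, hdl, LinearMap.restrictScalars_apply, li, LinearMap.comp_apply,
        Derivation.coeFn_coe, hi', lin_mapRange]
      rw [show (∏ a, del A' B' (algebraMap B B' (c a))) = tensorMap A B A' B' (∏ a, del A B (c a)) by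
        rw [map_prod]; exact Finset.prod_congr rfl fun a _ => (tensorMap_del _).symm, ← map_prod]
      let x0 : P k A B := Ideal.Quotient.mk _ (∏ a, del A B (c a))
      refine Eq.trans (b := hP.lift (mM ∘ₗ ρb) ((mapB k A B A' B').toLinearMap x0)) rfl ?_
      refine (hP.lift_eq (mM ∘ₗ ρb) x0).trans ?_
      rw [LinearMap.comp_apply, hρb, hval, hmM]
    have := congrArg (fun f : MultilinearMap A' (fun _ : ι => B') _ => f b) key
    simpa [f₁, f₂, li, hdl] using this

variable (A B) in
/-- Differential smoothness descends along faithfully flat base change. -/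
theorem isDiffSmooth_descent [Module.FaithfullyFlat A A'] (h : IsDiffSmooth A' B')
    (hfin : Module.Finite B' (KaehlerDifferential A' B')) :
    IsDiffSmooth A B ∧ Module.Finite B (KaehlerDifferential A B) := by
  haveI : Module.FaithfullyFlat B B' :=
    Module.FaithfullyFlat.of_linearEquiv (R := B) (M := B ⊗[A] A') (N := B')
      (Algebra.IsPushout.equiv A B A' B').toLinearEquiv.symm
  haveI : Module.Projective B' (KaehlerDifferential A' B') := h.1
  let e := (isBaseChange_kaehler A B A' B').equiv
  haveI : Module.Finite B' (B' ⊗[B] KaehlerDifferential A B) := Module.Finite.equiv e.symm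
  haveI : Module.Projective B' (B' ⊗[B] KaehlerDifferential A B) := Module.Projective.of_equiv e.symm
  haveI : Module.FinitePresentation B' (B' ⊗[B] KaehlerDifferential A B) :=
    Module.finitePresentation_of_projective B' _
  haveI : Module.Finite B (KaehlerDifferential A B) :=
    Module.Finite.of_finite_tensorProduct_of_faithfullyFlat B'
  haveI : Module.FinitePresentation B (KaehlerDifferential A B) :=
    finitePresentation_descent (S := B')
  haveI : Module.Flat B (KaehlerDifferential A B) := Module.Flat.of_flat_tensorProduct _ _ B'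
  haveI : Module.Projective B (KaehlerDifferential A B) := Module.Flat.projective_of_finitePresentation
  refine ⟨(isDiffSmooth_iff A B).mpr ⟨inferInstance, fun ι _ => ?_⟩, inferInstance⟩
  obtain ⟨κ, i, r, hr⟩ := exists_embedding A B
  obtain ⟨i', r', hr', hi'⟩ := exists_embedding_baseChange (A' := A') (B' := B') i r hr
  obtain ⟨ρ', hρ', hval⟩ := exists_symbol A' B' h κ i' ι
  let ρ : B ⊗[A] B →ₗ[B] MvPolynomial κ B' :=
    { toFun := fun x => ρ' (tensorMap A B A' B' x)
      map_add' := fun x y => by rw [map_add, map_add]
      map_smul' := fun c x => by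
        rw [RingHom.id_apply, Algebra.smul_def, Algebra.TensorProduct.algebraMap_apply, map_mul,
          tensorMap_tmul, Algebra.algebraMap_self, RingHom.id_apply, map_one,
          ← Algebra.algebraMap_self_apply (algebraMap B B' c),
          ← Algebra.TensorProduct.algebraMap_apply, ← Algebra.smul_def, map_smul, algebraMap_smul] }
  refine phi_injective_of_square i r hr ρ (fun x hx => ?_)
    (MvPolynomial.mapAlgHom (Algebra.ofId B B')).toLinearMap ?_ fun b => ?_
  · have h1 := Ideal.pow_right_mono (n := Fintype.card ι + 1) (ideal_map_tensorMap_le A B A' B')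
    rw [← Ideal.map_pow] at h1
    exact hρ' _ (h1 (Ideal.mem_map_of_mem _ hx))
  · exact MvPolynomial.map_injective _ (FaithfulSMul.algebraMap_injective B B')
  · show ρ' (tensorMap A B A' B' (∏ a, del A B (b a))) = _
    simp only [map_prod, tensorMap_del]
    rw [hval]
    simp only [hi', lin_mapRange]
    rw [← map_prod]
    rfl

end Groth.Agent.PPH
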