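import Groth.Agent.PPH.Criterion

/-! Differential smoothness from liftings of the first order jet. -/

set_option linter.unusedSectionVars false
set_option autoImplicit false

noncomputable section

namespace Groth.Agent.PPH

open PP16 MvPolynomial
open scoped TensorProduct

universe u

variable {A B : Type u} [CommRing A] [CommRing B] [Algebra A B]

local notation "II" => KaehlerDifferential.ideal A B

theorem lin_isHomogeneous {κ : Type u} (v : κ →₀ B) : (Sym.lin κ v).IsHomogeneous 1 := by
  rw [Sym.lin, Finsupp.linearCombination_apply]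
  refine MvPolynomial.IsHomogeneous.sum _ _ _ fun j _ => ?_
  simp only [MvPolynomial.smul_eq_C_mul]
  simpa using (isHomogeneous_C κ (v j)).mul (isHomogeneous_X B j)

theorem lin_mem {κ : Type u} (v : κ →₀ B) : Sym.lin κ v ∈ idealOfVars κ B := by
  rw [Sym.lin, Finsupp.linearCombination_apply]
  refine Ideal.sum_mem _ fun j _ => ?_
  simp only [MvPolynomial.smul_eq_C_mul]
  exact Ideal.mul_mem_left _ _ (Ideal.subset_span ⟨j, rfl⟩)

theorem homogeneousComponent_eq_zero_of_mem_pow {κ : Type u} {k : ℕ} {p : MvPolynomial κ B}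
    (hp : p ∈ idealOfVars κ B ^ (k + 1)) : homogeneousComponent k p = 0 := by
  classical
  ext d
  rw [coeff_homogeneousComponent, coeff_zero]
  split_ifs with hd
  · exact (mem_pow_idealOfVars_iff' _ _).mp hp d (by omega)
  · rfl

theorem isDiffSmooth_of_lifts {κ : Type u} (hproj : Module.Projective B (KaehlerDifferential A B))
    (i : KaehlerDifferential A B →ₗ[B] κ →₀ B) (r : (κ →₀ B) →ₗ[B] KaehlerDifferential A B)
    (hr : r ∘ₗ i = LinearMap.id)
    (h : ∀ N : ℕ, ∃ F : B →ₐ[A] MvPolynomial κ B ⧸ idealOfVars κ B ^ N, ∀ b,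
      F b - Ideal.Quotient.mk (idealOfVars κ B ^ N)
          (C b + Sym.lin κ (i (KaehlerDifferential.D A B b))) ∈
        ((idealOfVars κ B).map (Ideal.Quotient.mk (idealOfVars κ B ^ N))) ^ 2) :
    IsDiffSmooth A B := by
  refine (isDiffSmooth_iff A B).mpr ⟨hproj, fun ι _ => ?_⟩
  let k := Fintype.card ι
  suffices key : ∀ (Q : Type u) [CommRing Q] [Algebra A Q] [Algebra B Q] [IsScalarTower A B Q]
      (q : MvPolynomial κ B →ₐ[B] Q), Function.Surjective q →
      RingHom.ker q.toRingHom = idealOfVars κ B ^ (k + 1) →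
      (∃ F : B →ₐ[A] Q, ∀ b, F b - q (C b + Sym.lin κ (i (KaehlerDifferential.D A B b))) ∈
        ((idealOfVars κ B).map q.toRingHom) ^ 2) →
      Function.Injective (phi A B ι) from
    key (MvPolynomial κ B ⧸ idealOfVars κ B ^ (k + 1)) (Ideal.Quotient.mkₐ B _)
      (Ideal.Quotient.mkₐ_surjective B _) (Ideal.Quotient.mkₐ_ker B _) (h (k + 1))
  intro Q _ _ _ _ q hq hker hF
  obtain ⟨F, hF⟩ := hF
  let U : Ideal Q := (idealOfVars κ B).map q.toRingHom
  have hU : U ^ (k + 1) = ⊥ := by
    change (idealOfVars κ B).map q.toRingHom ^ (k + 1) = ⊥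
    rw [← Ideal.map_pow, eq_bot_iff, Ideal.map_le_iff_le_comap, ← hker]
    exact fun x hx => by simpa using hx
  have hd : ∀ b, F b - algebraMap B Q b ∈ U := by
    intro b
    have h1 := Ideal.pow_le_self (by omega : 2 ≠ 0) (hF b)
    have h2 : q (Sym.lin κ (i (KaehlerDifferential.D A B b))) ∈ U :=
      Ideal.mem_map_of_mem _ (lin_mem _)
    have e : F b - algebraMap B Q b =
        (F b - q (C b + Sym.lin κ (i (KaehlerDifferential.D A B b)))) +
          q (Sym.lin κ (i (KaehlerDifferential.D A B b))) := by
      rw [map_add, ← MvPolynomial.algebraMap_eq, AlgHom.commutes]; abel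
    rw [e]; exact add_mem h1 h2
  have hII : II ≤ U.comap (tensorDesc F).toRingHom := ideal_le_comap F hd
  let hom : MvPolynomial κ B →ₗ[B] MvPolynomial κ B := homogeneousComponent k
  have hk : LinearMap.ker q.toLinearMap ≤ LinearMap.ker hom := fun x hx => by
    refine LinearMap.mem_ker.mpr (homogeneousComponent_eq_zero_of_mem_pow ?_)
    rw [← hker]
    exact RingHom.mem_ker.mpr (LinearMap.mem_ker.mp hx)
  let back : Q →ₗ[B] MvPolynomial κ B := (Submodule.liftQ _ hom hk) ∘ₗ
    (q.toLinearMap.quotKerEquivOfSurjective hq).symm.toLinearMap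
  have hback : ∀ p, back (q p) = hom p := fun p => by
    have e : (q.toLinearMap.quotKerEquivOfSurjective hq).symm (q p) = Submodule.Quotient.mk p :=
      (LinearEquiv.symm_apply_eq _).mpr rfl
    exact (congrArg (Submodule.liftQ _ hom hk) e).trans rfl
  refine phi_injective_of_square i r hr (back ∘ₗ (tensorDesc F).toLinearMap) ?_ LinearMap.id
    (fun _ _ h => h) fun b => ?_
  · intro x hx
    have h1 := Ideal.le_comap_pow (tensorDesc F).toRingHom (k + 1)
      (Ideal.pow_right_mono hII (k + 1) hx)
    rw [hU] at h1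
    simp only [LinearMap.comp_apply]
    rw [show (tensorDesc F).toLinearMap x = 0 from (Submodule.mem_bot Q).mp h1, map_zero]
  · let y : ι → MvPolynomial κ B := fun a => Sym.lin κ (i (KaehlerDifferential.D A B (b a)))
    have hval : tensorDesc F (∏ a, del A B (b a)) = q (∏ a, y a) := by
      rw [map_prod, map_prod]
      refine sub_eq_zero.mp ((Submodule.mem_bot Q).mp (hU ▸ ?_))
      have hc : (Finset.univ : Finset ι).card + 1 = k + 1 := rfl
      rw [← hc]
      refine prod_sub_prod_mem U _ _ Finset.univ (fun a _ => Ideal.mem_map_of_mem _ (lin_mem _))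
        fun a _ => ?_
      have e : tensorDesc F (del A B (b a)) - q (y a) =
          F (b a) - q (C (b a) + Sym.lin κ (i (KaehlerDifferential.D A B (b a)))) := by
        simp only [del, map_sub, tensorDesc_tmul, map_one, one_mul, mul_one, map_add,
          ← MvPolynomial.algebraMap_eq, AlgHom.commutes, y]
        abel
      rw [e]
      exact hF (b a)
    simp only [LinearMap.comp_apply, AlgHom.toLinearMap_apply, hval, hback, LinearMap.id_apply]
    refine homogeneousComponent_eq_self ?_
    have := MvPolynomial.IsHomogeneous.prod Finset.univ y (fun _ => 1)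
      fun a _ => lin_isHomogeneous _
    simpa [k] using this

end Groth.Agent.PPH
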